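import Mathlib.AlgebraicGeometry.Morphisms.Affine
import Mathlib.AlgebraicGeometry.Morphisms.QuasiCompact
import Mathlib.RingTheory.KrullDimension.Basic
import Mathlib.RingTheory.Localization.Ideal
import Mathlib.RingTheory.Ideal.MinimalPrime.Noetherian

/-!
# Retrocompact opens are affine where the local rings are Noetherian of dimension at most one
-/

set_option autoImplicit false
set_option linter.style.haveILetI false

universe u

open CategoryTheory Limits AlgebraicGeometry TopologicalSpace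

namespace Groth.Agent.H41.AffineDimOne

/-- Near a prime with Noetherian local ring of dimension `≤ 1`, a finitely generated ideal cuts out
the zero set of one element. -/
theorem exists_elem {R : Type u} [CommRing R] (p : Ideal R) [p.IsPrime] (I : Ideal R) (hI : I.FG)
    [IsNoetherianRing (Localization.AtPrime p)] (hd : ringKrullDim (Localization.AtPrime p) ≤ 1) :
    ∃ (s g : R), s ∉ p ∧ ∀ q : Ideal R, q.IsPrime → s ∉ q → (g ∈ q ↔ I ≤ q) := by
  classical
  let A := Localization.AtPrime p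
  let J := I.map (algebraMap R A)
  haveI : Ring.KrullDimLE 1 A := (Ring.krullDimLE_iff).2 (by exact_mod_cast hd)
  have hfin : {Q : Ideal A | Q.IsPrime}.Finite := by
    refine ((Ideal.finite_minimalPrimes_of_isNoetherianRing A ⊥).union
      (Set.finite_singleton (IsLocalRing.maximalIdeal A))).subset fun Q hQ => ?_
    rcases Ring.krullDimLE_one_iff.1 inferInstance Q hQ with h | h
    · exact Or.inl h
    · exact Or.inr (IsLocalRing.eq_maximalIdeal h)
  let T := hfin.toFinset.filter fun Q => J ≤ Q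
  let S := hfin.toFinset.filter fun Q => ¬ J ≤ Q
  obtain ⟨a, haT, haS⟩ : ∃ a ∈ T.inf id, ∀ Q ∈ S, a ∉ Q := by
    by_contra hc
    push Not at hc
    have hsub : ((T.inf id : Ideal A) : Set A) ⊆ ⋃ Q ∈ ↑S, ((id Q : Ideal A) : Set A) := fun z hz => by
      obtain ⟨Q, hQ, hzQ⟩ := hc z hz
      exact Set.mem_biUnion hQ hzQ
    obtain ⟨Q, hQ, hle⟩ := (Ideal.subset_union_prime (f := id) ⊥ ⊥ fun Q hQ _ _ =>
      hfin.mem_toFinset.1 (Finset.mem_filter.1 hQ).1).1 hsub
    obtain ⟨t, ht, htQ⟩ := ((hfin.mem_toFinset.1 (Finset.mem_filter.1 hQ).1).inf_le').1 hle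
    exact (Finset.mem_filter.1 hQ).2 ((Finset.mem_filter.1 ht).2.trans htQ)
  obtain ⟨⟨g, s₀⟩, hgs⟩ := IsLocalization.surj p.primeCompl a
  have hu : IsUnit (algebraMap R A (s₀ : R)) := IsLocalization.map_units A s₀
  have hkey : ∀ Q : Ideal A, Q.IsPrime → (algebraMap R A g ∈ Q ↔ J ≤ Q) := fun Q hQ => by
    have hga : algebraMap R A g ∈ Q ↔ a ∈ Q := by
      rw [← hgs]; exact Ideal.mul_unit_mem_iff_mem Q hu
    rw [hga]
    constructor
    · intro haQ
      by_contra hne
      exact haS Q (Finset.mem_filter.2 ⟨hfin.mem_toFinset.2 hQ, hne⟩) haQ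
    · intro hle
      exact (Finset.inf_le (Finset.mem_filter.2 ⟨hfin.mem_toFinset.2 hQ, hle⟩) : T.inf id ≤ Q) haT
  -- clearing denominators
  have hmem : ∀ (K : Ideal R) (x : R), algebraMap R A x ∈ (K.map (algebraMap R A)).radical →
      ∃ s ∈ p.primeCompl, ∃ n : ℕ, s * x ^ n ∈ K := fun K x ⟨n, hn⟩ => by
    rw [← map_pow, IsLocalization.algebraMap_mem_map_algebraMap_iff p.primeCompl A] at hn
    obtain ⟨s, hs, hm⟩ := hn
    exact ⟨s, hs, n, hm⟩
  have h1 : algebraMap R A g ∈ J.radical := by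
    rw [Ideal.radical_eq_sInf]
    exact Submodule.mem_sInf.2 fun Q hQ => (hkey Q hQ.2).2 hQ.1
  obtain ⟨s₁, hs₁, n₁, h1⟩ := hmem I g h1
  obtain ⟨G, hG⟩ := hI
  have h2 : ∀ x ∈ G, ∃ s ∈ p.primeCompl, ∃ n : ℕ, s * x ^ n ∈ Ideal.span {g} := fun x hx => by
    refine hmem _ x ?_
    rw [Ideal.map_span, Set.image_singleton, Ideal.radical_eq_sInf]
    exact Submodule.mem_sInf.2 fun Q hQ => (hkey Q hQ.2).1 (hQ.1 (Ideal.mem_span_singleton_self _))
      (Ideal.mem_map_of_mem _ (hG ▸ Ideal.subset_span hx))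
  choose! s hs n hn using h2
  refine ⟨s₁ * ∏ x ∈ G, s x, g, ?_, fun q hq hsq => ?_⟩
  · exact mul_mem (s := p.primeCompl) hs₁ (prod_mem fun x hx => hs x hx)
  constructor
  · intro hgq
    rw [← hG]
    refine Ideal.span_le.2 fun x hx => ?_
    rcases hq.mem_or_mem ((Ideal.span_singleton_le_iff_mem _).2 hgq (hn x hx)) with h | h
    · exact absurd (Ideal.mul_mem_left _ _ ((Ideal.IsPrime.prod_mem_iff (hp := hq)).2 ⟨x, hx, h⟩ : ∏ y ∈ G, s y ∈ q)) hsq
    · exact hq.mem_of_pow_mem _ h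
  · intro hle
    rcases hq.mem_or_mem (hle h1) with h | h
    · exact absurd (Ideal.mul_mem_right _ _ h) hsq
    · exact hq.mem_of_pow_mem _ h

set_option backward.isDefEq.respectTransparency false in
/-- Affineness of an open immersion is local on the target. -/
theorem isAffineHom_of_locally {X : Scheme.{u}} (U : X.Opens)
    (h : ∀ x, ∃ W : X.Opens, x ∈ W ∧ IsAffineHom (X.homOfLE (inf_le_right : U ⊓ W ≤ W))) :
    IsAffineHom U.ι := by
  choose W hxW hW using h
  refine IsZariskiLocalAtTarget.of_iSup_eq_top (P := @IsAffineHom.{u}) W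
    (Opens.ext (Set.eq_univ_of_forall fun x => Opens.mem_iSup.2 ⟨x, hxW x⟩)) fun x => ?_
  have sq : IsPullback (X.homOfLE (inf_le_left : U ⊓ W x ≤ U)) (X.homOfLE (inf_le_right : U ⊓ W x ≤ W x))
      U.ι (W x).ι := isPullback_opens_inf U (W x)
  have hIso := (isPullback_morphismRestrict U.ι (W x)).flip
  rw [← MorphismProperty.cancel_left_of_respectsIso @IsAffineHom (sq.isoIsPullback _ _ hIso).hom,
    sq.isoIsPullback_hom_snd]
  exact hW x

/-- A retrocompact open is affinely embedded. -/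
theorem isAffineHom_ι {X : Scheme.{u}}
    (hX : ∀ x : X, IsNoetherianRing (X.presheaf.stalk x) ∧ ringKrullDim (X.presheaf.stalk x) ≤ 1)
    (U : X.Opens) [QuasiCompact U.ι] : IsAffineHom U.ι := by
  refine isAffineHom_of_locally U fun x => ?_
  by_cases hxU : x ∈ U
  · refine ⟨U, hxU, ?_⟩
    have : IsIso (X.homOfLE (inf_le_right : U ⊓ U ≤ U)) := by
      rw [show X.homOfLE (inf_le_right : U ⊓ U ≤ U) = (X.isoOfEq (inf_idem U)).hom from rfl]
      infer_instance
    infer_instance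
  obtain ⟨W, hW, hxW, -⟩ := exists_isAffineOpen_mem_and_subset (X := X) (U := ⊤) (x := x) trivial
  let P := hW.primeIdealOf ⟨x, hxW⟩
  let Z : Set (PrimeSpectrum Γ(X, W)) := hW.fromSpec.base ⁻¹' (U : Set X)
  have hZc : IsCompact Z := by
    have h := U.ι.isCompact_preimage hW.isCompact
    have h' : IsCompact ((W : Set X) ∩ U) := by
      have hi := h.image U.ι.continuous
      convert hi using 1
      ext y
      exact ⟨fun hy => ⟨⟨y, hy.2⟩, hy.1, rfl⟩, fun ⟨z, hz, hzy⟩ => hzy ▸ ⟨hz, z.2⟩⟩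
    rw [show Z = hW.fromSpec.base ⁻¹' ((W : Set X) ∩ U) by
      ext z
      have hz : hW.fromSpec z ∈ (W : Set X) := hW.range_fromSpec ▸ ⟨z, rfl⟩
      exact ⟨fun h => ⟨hz, h⟩, fun h => h.2⟩]
    refine hW.fromSpec.isOpenEmbedding.isInducing.isCompact_preimage' h' ?_
    rw [hW.range_fromSpec]
    exact Set.inter_subset_left
  obtain ⟨I, hIfg, hG⟩ := PrimeSpectrum.isCompact_isOpen_iff_ideal.1
    ⟨hZc, U.2.preimage hW.fromSpec.continuous⟩
  have hZI : ∀ Q : PrimeSpectrum Γ(X, W), hW.fromSpec Q ∈ U ↔ ¬ I ≤ Q.asIdeal := fun Q => by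
    show Q ∈ Z ↔ _
    rw [← hG, Set.mem_compl_iff, PrimeSpectrum.mem_zeroLocus, SetLike.coe_subset_coe]
  letI := TopCat.Presheaf.algebra_section_stalk X.presheaf (⟨x, hxW⟩ : W)
  haveI := hW.isLocalization_stalk ⟨x, hxW⟩
  let e : Localization.AtPrime P.asIdeal ≃+* X.presheaf.stalk x :=
    (IsLocalization.algEquiv P.asIdeal.primeCompl (Localization.AtPrime P.asIdeal) (X.presheaf.stalk x)).toRingEquiv
  haveI : IsNoetherianRing (Localization.AtPrime P.asIdeal) :=
    @isNoetherianRing_of_ringEquiv _ _ _ _ e.symm (hX x).1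
  obtain ⟨s, g, hs, hg⟩ := exists_elem P.asIdeal I hIfg ((ringKrullDim_eq_of_ringEquiv e).le.trans (hX x).2)
  refine ⟨X.basicOpen s, ?_, ?_⟩
  · have h0 : hW.fromSpec P = x := hW.fromSpec_primeIdealOf ⟨x, hxW⟩
    refine h0 ▸ ?_
    show P ∈ hW.fromSpec ⁻¹ᵁ X.basicOpen s
    rw [hW.fromSpec_preimage_basicOpen]
    exact hs
  have heq : U ⊓ X.basicOpen s = X.basicOpen (g * s) := by
    refine Opens.ext (Set.ext fun y => ⟨fun hy => ?_, fun hy => ?_⟩)
    all_goals
      obtain ⟨Q, rfl⟩ : y ∈ Set.range hW.fromSpec := by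
        rw [hW.range_fromSpec]
        first
          | exact X.basicOpen_le s hy.2
          | exact X.basicOpen_le _ hy
    · show Q ∈ hW.fromSpec ⁻¹ᵁ X.basicOpen (g * s)
      have h2 : Q ∈ hW.fromSpec ⁻¹ᵁ X.basicOpen s := hy.2
      rw [hW.fromSpec_preimage_basicOpen] at h2 ⊢
      intro h
      rcases Q.2.mem_or_mem h with h | h
      · exact (hZI Q).1 hy.1 ((hg _ Q.2 h2).1 h)
      · exact h2 h
    · have h1 : Q ∈ hW.fromSpec ⁻¹ᵁ X.basicOpen (g * s) := hy
      rw [hW.fromSpec_preimage_basicOpen] at h1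
      have h2 : s ∉ Q.asIdeal := fun h => h1 (Ideal.mul_mem_left _ _ h)
      refine ⟨(hZI Q).2 fun h => h1 (Ideal.mul_mem_right _ _ ((hg _ Q.2 h2).2 h)), ?_⟩
      show Q ∈ hW.fromSpec ⁻¹ᵁ X.basicOpen s
      rw [hW.fromSpec_preimage_basicOpen]
      exact h2
  haveI : IsAffine ((U ⊓ X.basicOpen s : X.Opens) : Scheme.{u}) := by
    rw [heq]; exact hW.basicOpen _
  haveI : IsAffine ((X.basicOpen s : X.Opens) : Scheme.{u}) := hW.basicOpen s
  infer_instance

end Groth.Agent.H41.AffineDimOne
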