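import Groth.Agent.Lib.EtSite.DerivedBC
import Groth.Agent.Lib.EtSite.BCCmp.Degree
import Mathlib.CategoryTheory.Abelian.FunctorCategory
import Mathlib.CategoryTheory.ComposableArrows.Basic
import Mathlib.Algebra.Homology.HomologySequenceLemmas
import Mathlib.CategoryTheory.Abelian.Refinements
import Mathlib.CategoryTheory.Limits.FunctorCategory.EpiMono

/-!
# The base change maps of right derived functors and short exact sequences

Compatible resolutions of a short exact sequence and of its inverse image are taken in the category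
of arrows; the base change maps then form a morphism of long exact sequences.
-/

set_option autoImplicit false
set_option backward.isDefEq.respectTransparency.types false
set_option linter.unusedSectionVars false
set_option linter.style.haveILetI false

universe v₁ v₂ v₃ v₄ u₁ u₂ u₃ u₄

open CategoryTheory CategoryTheory.Limits HomologicalComplex

noncomputable section

namespace Groth.Agent.H41.BCMonoAlg

open Groth.Agent.Lib.EtSite

section Arrows

variable {A : Type u₁} [Category.{v₁} A] [Abelian A]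

/-- Evaluation of arrows. -/
abbrev E (i : Fin 2) : ComposableArrows A 1 ⥤ A := (evaluation (Fin 2) A).obj i

/-- The arrow, as a natural transformation between evaluations. -/
abbrev η : E (A := A) 0 ⟶ E 1 := (evaluation (Fin 2) A).map (homOfLE (by decide))

theorem injective_mk_snd (I J : A) [Injective I] [Injective J] :
    Injective (ComposableArrows.mk₁ (biprod.snd : I ⊞ J ⟶ J)) := by
  refine ⟨fun {X Y} g f _ => ?_⟩
  let b : Y.obj 1 ⟶ J := Injective.factorThru (g.app 1 : X.obj 1 ⟶ J) (f.app 1)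
  let a : Y.obj 0 ⟶ I := Injective.factorThru ((g.app 0 : X.obj 0 ⟶ I ⊞ J) ≫ biprod.fst) (f.app 0)
  refine ⟨ComposableArrows.homMk₁ (biprod.lift a (Y.map' 0 1 ≫ b)) b (biprod.lift_snd _ _).symm,
    ComposableArrows.hom_ext₁ ?_ ?_⟩
  · change f.app 0 ≫ biprod.lift a (Y.map' 0 1 ≫ b) = (g.app 0 : X.obj 0 ⟶ I ⊞ J)
    refine biprod.hom_ext _ _ ?_ ?_
    · exact (Category.assoc _ _ _).trans ((congrArg (f.app 0 ≫ ·) (biprod.lift_fst _ _)).trans
        (Injective.comp_factorThru ((g.app 0 : X.obj 0 ⟶ I ⊞ J) ≫ biprod.fst) (f.app 0)))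
    · rw [Category.assoc, biprod.lift_snd, ← Category.assoc]
      exact (congrArg (· ≫ b) (ComposableArrows.naturality' f 0 1).symm).trans
        ((Category.assoc _ _ _).trans ((congrArg (X.map' 0 1 ≫ ·)
          (Injective.comp_factorThru (J := J) (g.app 1) (f.app 1))).trans
          (ComposableArrows.naturality' g 0 1)))
  · exact Injective.comp_factorThru (J := J) (g.app 1) (f.app 1)

theorem mono_pres [EnoughInjectives A] (X : ComposableArrows A 1) :
    Mono (ComposableArrows.homMk₁ (F := X)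
      (G := ComposableArrows.mk₁ (biprod.snd : Injective.under (X.obj 0) ⊞ Injective.under (X.obj 1) ⟶
        Injective.under (X.obj 1)))
      (biprod.lift (Injective.ι (X.obj 0)) (X.map' 0 1 ≫ Injective.ι (X.obj 1)))
      (Injective.ι (X.obj 1)) (biprod.lift_snd _ _).symm) := by
  have : ∀ i : Fin 2, Mono ((ComposableArrows.homMk₁ (F := X)
      (G := ComposableArrows.mk₁ (biprod.snd : Injective.under (X.obj 0) ⊞
        Injective.under (X.obj 1) ⟶ Injective.under (X.obj 1)))
      (biprod.lift (Injective.ι (X.obj 0)) (X.map' 0 1 ≫ Injective.ι (X.obj 1)))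
      (Injective.ι (X.obj 1)) (biprod.lift_snd _ _).symm).app i) := fun i => by
    fin_cases i
    · have : Mono (Injective.ι (X.obj 0)) := Injective.ι_mono _
      exact mono_of_mono_fac (biprod.lift_fst (Injective.ι (X.obj 0))
        (X.map' 0 1 ≫ Injective.ι (X.obj 1)))
    · exact Injective.ι_mono (X.obj 1)
  exact NatTrans.mono_of_mono_app _

instance enoughInjectives_arrows [EnoughInjectives A] : EnoughInjectives (ComposableArrows A 1) :=
  ⟨fun X => ⟨⟨ComposableArrows.mk₁ (biprod.snd : Injective.under (X.obj 0) ⊞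
      Injective.under (X.obj 1) ⟶ Injective.under (X.obj 1)),
    injective_mk_snd _ _, _, mono_pres X⟩⟩⟩

/-- An injective arrow is a split epimorphism between injectives. -/
theorem of_injective [EnoughInjectives A] (X : ComposableArrows A 1) [Injective X] :
    Injective (X.obj 0) ∧ Injective (X.obj 1) ∧ ∃ s, s ≫ X.map' 0 1 = 𝟙 _ := by
  have := mono_pres X
  let i := ComposableArrows.homMk₁ (F := X)
      (G := ComposableArrows.mk₁ (biprod.snd : Injective.under (X.obj 0) ⊞ Injective.under (X.obj 1) ⟶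
        Injective.under (X.obj 1)))
      (biprod.lift (Injective.ι (X.obj 0)) (X.map' 0 1 ≫ Injective.ι (X.obj 1)))
      (Injective.ι (X.obj 1)) (biprod.lift_snd _ _).symm
  let r := Injective.factorThru (𝟙 X) i
  have h : i ≫ r = 𝟙 X := Injective.comp_factorThru _ _
  have h0 : i.app 0 ≫ r.app 0 = 𝟙 _ := congrArg (fun m => m.app 0) h
  have h1 : i.app 1 ≫ r.app 1 = 𝟙 _ := congrArg (fun m => m.app 1) h
  let a : Retract (X.obj 0) (Injective.under (X.obj 0) ⊞ Injective.under (X.obj 1)) :=
    { i := i.app 0, r := r.app 0, retract := h0 }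
  let b : Retract (X.obj 1) (Injective.under (X.obj 1)) :=
    { i := i.app 1, r := r.app 1, retract := h1 }
  refine ⟨a.injective, b.injective, Injective.ι (X.obj 1) ≫ biprod.inr ≫ r.app 0, ?_⟩
  have hn : r.app 0 ≫ X.map' 0 1 = biprod.snd ≫ r.app 1 := (ComposableArrows.naturality' r 0 1).symm
  refine Eq.trans ?_ h1
  refine (Category.assoc _ _ _).trans (congrArg (_ ≫ ·) ((Category.assoc _ _ _).trans ?_))
  exact (congrArg (biprod.inr ≫ ·) hn).trans (biprod.inr_snd_assoc _)

end Arrows

section Res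

variable {A : Type u₁} [Category.{v₁} A] [Abelian A] [EnoughInjectives A]
  {S : ShortComplex A} (R : InjectiveResolution (ComposableArrows.mk₁ S.g))

/-- The complex over the middle term. -/
abbrev T₂ : CochainComplex A ℕ := ((E 0).mapHomologicalComplex _).obj R.cocomplex
/-- The complex over the last term. -/
abbrev T₃ : CochainComplex A ℕ := ((E 1).mapHomologicalComplex _).obj R.cocomplex
/-- The map of complexes. -/
abbrev Tg : T₂ R ⟶ T₃ R := (NatTrans.mapHomologicalComplex η _).app R.cocomplex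
/-- The short complex of resolutions. -/
abbrev T : ShortComplex (CochainComplex A ℕ) :=
  ShortComplex.mk (kernel.ι (Tg R)) (Tg R) (kernel.condition _)

theorem shortExact_T : (T R).ShortExact := by
  have : ∀ i, Epi ((Tg R).f i) := fun i => by
    obtain ⟨-, -, s, hs⟩ := of_injective (R.cocomplex.X i)
    exact (SplitEpi.mk s hs).epi
  have : Epi (Tg R) := HomologicalComplex.epi_of_epi_f _ this
  exact { exact := ShortComplex.exact_of_f_is_kernel _ (kernelIsKernel (Tg R)) }

/-- The degreewise splitting. -/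
theorem exists_splitting (i : ℕ) :
    Nonempty ((T R).map (HomologicalComplex.eval A (.up ℕ) i)).Splitting := by
  obtain ⟨-, -, s, hs⟩ := of_injective (R.cocomplex.X i)
  have h := (shortExact_T R).map_of_exact (HomologicalComplex.eval A (.up ℕ) i)
  exact ⟨ShortComplex.Splitting.ofExactOfSection _ h.exact s hs h.mono_f⟩

theorem injective_kernel (i : ℕ) : Injective ((T R).X₁.X i) := by
  obtain ⟨sp⟩ := exists_splitting R i
  have := (of_injective (R.cocomplex.X i)).1
  exact @Retract.injective _ _ _ (((T R).map (HomologicalComplex.eval A (.up ℕ) i)).X₂)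
    { i := ((T R).map (HomologicalComplex.eval A (.up ℕ) i)).f, r := sp.r, retract := sp.f_r } this

theorem quasiIso_aug (i : Fin 2) : QuasiIso (RDer.mapAug (E i) R.ι) := by
  have : (E (A := A) i).PreservesHomology := by infer_instance
  unfold RDer.mapAug
  infer_instance

/-- The augmentation of the middle term. -/
abbrev aug₂ : (CochainComplex.single₀ A).obj S.X₂ ⟶ T₂ R := RDer.mapAug (E 0) R.ι
/-- The augmentation of the last term. -/
abbrev aug₃ : (CochainComplex.single₀ A).obj S.X₃ ⟶ T₃ R := RDer.mapAug (E 1) R.ι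

theorem aug₂_f_zero : (aug₂ R).f 0 = (R.ι.f 0).app 0 := DerivedBC.mapAug_f_zero _ _
theorem aug₃_f_zero : (aug₃ R).f 0 = (R.ι.f 0).app 1 := DerivedBC.mapAug_f_zero _ _

theorem aug₂_Tg : (aug₂ R).f 0 ≫ (Tg R).f 0 = S.g ≫ (aug₃ R).f 0 := by
  rw [aug₂_f_zero, aug₃_f_zero]
  exact (ComposableArrows.naturality' (R.ι.f 0) 0 1).symm

/-- The augmentation of the first term. -/
def aug₁ : (CochainComplex.single₀ A).obj S.X₁ ⟶ (T R).X₁ :=
  kernel.lift (Tg R) ((CochainComplex.single₀ A).map S.f ≫ aug₂ R)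
    (HomologicalComplex.from_single_hom_ext (by
      rw [HomologicalComplex.comp_f, HomologicalComplex.comp_f, HomologicalComplex.zero_f,
        Category.assoc, aug₂_Tg]
      simp
      rfl))

theorem aug₁_f : (aug₁ R) ≫ (T R).f = (CochainComplex.single₀ A).map S.f ≫ aug₂ R :=
  kernel.lift_ι _ _ _

theorem aug₁_f_zero : (aug₁ R).f 0 ≫ (T R).f.f 0 = S.f ≫ (aug₂ R).f 0 :=
  (congrArg (fun m => m.f 0) (aug₁_f R)).trans (by simp)

theorem quasiIso_aug₁ (hS : S.ShortExact) : QuasiIso (aug₁ R) := by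
  have hS' : (S.map (CochainComplex.single₀ A)).ShortExact :=
    HomologicalComplex.shortExact_of_degreewise_shortExact _ fun i => by
      cases i with
      | zero =>
        exact ShortComplex.shortExact_of_iso (ShortComplex.isoMk (S₁ := S)
          (HomologicalComplex.singleObjXSelf (ComplexShape.up ℕ) 0 S.X₁).symm
          (HomologicalComplex.singleObjXSelf (ComplexShape.up ℕ) 0 S.X₂).symm
          (HomologicalComplex.singleObjXSelf (ComplexShape.up ℕ) 0 S.X₃).symm (by simp; exact (Category.id_comp _).trans (Category.comp_id _).symm)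
          (by simp; exact (Category.id_comp _).trans (Category.comp_id _).symm)) hS
      | succ i =>
        have hz : ∀ M : A, IsZero (((CochainComplex.single₀ A).obj M).X (i + 1)) := fun M =>
          HomologicalComplex.isZero_single_obj_X _ _ _ _ (by simp)
        exact { exact := ShortComplex.exact_of_isZero_X₂ _ (hz S.X₂)
                mono_f := ⟨fun _ _ _ => (hz S.X₁).eq_of_tgt _ _⟩
                epi_g := ⟨fun _ _ _ => (hz S.X₃).eq_of_src _ _⟩ }
  let φ : S.map (CochainComplex.single₀ A) ⟶ T R :=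
    { τ₁ := aug₁ R, τ₂ := aug₂ R, τ₃ := aug₃ R
      comm₁₂ := aug₁_f R
      comm₂₃ := HomologicalComplex.from_single_hom_ext (by
        rw [HomologicalComplex.comp_f, HomologicalComplex.comp_f]
        refine (aug₂_Tg R).trans ?_
        simp
        rfl) }
  have hT := shortExact_T R
  haveI h2 : QuasiIso φ.τ₂ := quasiIso_aug R 0
  haveI h3 : QuasiIso φ.τ₃ := quasiIso_aug R 1
  refine (quasiIso_iff _).2 fun j => (quasiIsoAt_iff_isIso_homologyMap _ j).2 ?_
  cases j with
  | zero =>
    have hn : ∀ i, ¬ (ComplexShape.up ℕ).Rel i 0 := fun i h => Nat.succ_ne_zero i h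
    haveI := hS'.mono_f
    haveI := hT.mono_f
    haveI := HomologicalComplex.mono_homologyMap_of_mono_of_not_rel
      (S.map (CochainComplex.single₀ A)).f 0 hn
    haveI := HomologicalComplex.mono_homologyMap_of_mono_of_not_rel (T R).f 0 hn
    haveI : Mono (homologyMap φ.τ₁ 0) := by
      have e := congrArg (fun m => homologyMap m 0) φ.comm₁₂
      simp only [homologyMap_comp] at e
      haveI : Mono (homologyMap φ.τ₁ 0 ≫ homologyMap (T R).f 0) := by rw [e]; infer_instance
      exact mono_of_mono _ (homologyMap (T R).f 0)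
    haveI : Epi (homologyMap φ.τ₁ 0) :=
      ShortComplex.epi_of_mono_of_epi_of_mono
        ((HomologicalComplex.homologyFunctor A _ 0).mapShortComplex.map φ)
        (hS'.homology_exact₂ 0) (inferInstanceAs (Mono (homologyMap (T R).f 0)))
        (inferInstanceAs (Epi (homologyMap φ.τ₂ 0))) (inferInstanceAs (Mono (homologyMap φ.τ₃ 0)))
    exact isIso_of_mono_of_epi (homologyMap φ.τ₁ 0)
  | succ j =>
    exact Abelian.isIso_of_epi_of_isIso_of_isIso_of_mono
      (HomologicalComplex.HomologySequence.composableArrows₅_exact hS' j (j + 1) rfl).δ₀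
      (HomologicalComplex.HomologySequence.composableArrows₅_exact hT j (j + 1) rfl).δ₀
      (ComposableArrows.δ₀Functor.map
        (HomologicalComplex.HomologySequence.mapComposableArrows₅ φ hS' hT j (j + 1) rfl))
      (inferInstanceAs (Epi (homologyMap φ.τ₂ j))) (inferInstanceAs (IsIso (homologyMap φ.τ₃ j)))
      (inferInstanceAs (IsIso (homologyMap φ.τ₂ (j + 1))))
      (inferInstanceAs (Mono (homologyMap φ.τ₃ (j + 1))))

/-- The resolution of the first term. -/
def res₁ (hS : S.ShortExact) : InjectiveResolution S.X₁ where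
  cocomplex := (T R).X₁
  injective := injective_kernel R
  ι := aug₁ R
  quasiIso := quasiIso_aug₁ R hS

/-- The resolution of the middle term. -/
def res₂ : InjectiveResolution S.X₂ where
  cocomplex := T₂ R
  injective n := (of_injective (R.cocomplex.X n)).1
  ι := aug₂ R
  quasiIso := quasiIso_aug R 0

/-- The resolution of the last term. -/
def res₃ : InjectiveResolution S.X₃ where
  cocomplex := T₃ R
  injective n := (of_injective (R.cocomplex.X n)).2.1
  ι := aug₃ R
  quasiIso := quasiIso_aug R 1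

end Res

section Chase

variable {B : Type u₁} [Category.{v₁} B] [Abelian B] {K K' : ShortComplex (CochainComplex B ℕ)}

/-- The chase on two long exact sequences. -/
theorem chase (χ : K ⟶ K') (hK : K.ShortExact) (hK' : K'.ShortExact) (i j : ℕ) (hij : i + 1 = j)
    [Epi (homologyMap χ.τ₃ i)] [Mono (homologyMap χ.τ₃ j)] {Z : B} (y : Z ⟶ K'.X₁.homology j)
    (z : Z ⟶ K.X₂.homology j) (h : y ≫ homologyMap K'.f j = z ≫ homologyMap χ.τ₂ j) :
    ∃ (Z' : B) (π : Z' ⟶ Z) (_ : Epi π) (u : Z' ⟶ K.X₁.homology j),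
      π ≫ y = u ≫ homologyMap χ.τ₁ j := by
  have hz : z ≫ homologyMap K.g j = 0 := by
    rw [← cancel_mono (homologyMap χ.τ₃ j), Category.assoc, ← homologyMap_comp, ← χ.comm₂₃,
      homologyMap_comp, ← reassoc_of% h, ← homologyMap_comp, K'.zero, homologyMap_zero, comp_zero,
      zero_comp]
  obtain ⟨Z₁, π₁, _, w, hw⟩ := (hK.homology_exact₂ j).exact_up_to_refinements z hz
  dsimp at hw
  have hy : (π₁ ≫ y - w ≫ homologyMap χ.τ₁ j) ≫ homologyMap K'.f j = 0 := by
    rw [Preadditive.sub_comp, Category.assoc, h, Category.assoc, ← homologyMap_comp, χ.comm₁₂,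
      homologyMap_comp, reassoc_of% hw, sub_self]
  obtain ⟨Z₂, π₂, _, v, hv⟩ := (hK'.homology_exact₁ i j hij).exact_up_to_refinements _ hy
  dsimp at hv
  obtain ⟨Z₃, π₃, _, u, hu⟩ := surjective_up_to_refinements_of_epi (homologyMap χ.τ₃ i) v
  refine ⟨Z₃, π₃ ≫ π₂ ≫ π₁, inferInstance, π₃ ≫ π₂ ≫ w + u ≫ hK.δ i j hij, ?_⟩
  rw [Preadditive.add_comp, Category.assoc, Category.assoc, Category.assoc, Category.assoc,
    Category.assoc, HomologicalComplex.HomologySequence.δ_naturality χ hK hK' i j hij,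
    ← reassoc_of% hu, ← hv]
  simp only [Preadditive.comp_sub, Category.assoc]
  abel

theorem mono_τ₁ (χ : K ⟶ K') (hK : K.ShortExact) (hK' : K'.ShortExact) (i j : ℕ) (hij : i + 1 = j)
    (h₀ : Epi (homologyMap χ.τ₂ i)) (h₁ : Mono (homologyMap χ.τ₃ i))
    (h₃ : Mono (homologyMap χ.τ₂ j)) : Mono (homologyMap χ.τ₁ j) :=
  Abelian.mono_of_epi_of_mono_of_mono'' (k := 1) (n := 5) (by decide)
    (HomologicalComplex.HomologySequence.composableArrows₅_exact hK i j hij)
    (HomologicalComplex.HomologySequence.composableArrows₅_exact hK' i j hij)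
    (HomologicalComplex.HomologySequence.mapComposableArrows₅ χ hK hK' i j hij)
    1 2 3 4 rfl rfl rfl rfl h₀ h₁ h₃

end Chase

section BC

variable {A : Type u₁} [Category.{v₁} A] [Abelian A] [EnoughInjectives A]
  {A' : Type u₂} [Category.{v₂} A'] [Abelian A'] [EnoughInjectives A']
  {B : Type u₃} [Category.{v₃} B] [Abelian B]
  {B' : Type u₄} [Category.{v₄} B'] [Abelian B']
  {p : A ⥤ B} [p.Additive] {p' : A' ⥤ B'} [p'.Additive]
  {R' : A' ⥤ A} [R'.Additive] [R'.PreservesInjectiveObjects]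
  {L' : A ⥤ A'} [L'.Additive]
  {Rr : B' ⥤ B} [Rr.Additive] [PreservesFiniteLimits Rr]
  {L : B ⥤ B'} [L.Additive] [PreservesFiniteLimits L]
  (aL : L ⊣ Rr) (aL' : L' ⊣ R') (α₀ : R' ⋙ p ⟶ p' ⋙ Rr)

/-- The base change map computed with any resolutions. -/
theorem bcMor_eq' {G : A} {X : A'} (a : G ⟶ R'.obj X) (q : ℕ) (I : InjectiveResolution G)
    (J : InjectiveResolution X) (φ : I.cocomplex ⟶ (R'.mapHomologicalComplex _).obj J.cocomplex)
    (hφ : I.ι.f 0 ≫ φ.f 0 = a ≫ (RDer.mapAug R' J.ι).f 0) :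
    DerivedBC.bcMor (G := G) α₀ a q = (I.isoRightDerivedObj p q).hom ≫
      (homologyFunctor B (ComplexShape.up ℕ) q).map ((p.mapHomologicalComplex _).map φ ≫
        (NatTrans.mapHomologicalComplex α₀ _).app J.cocomplex) ≫
      RDer.homologyComparison Rr ((p'.mapHomologicalComplex _).obj J.cocomplex) q ≫
      Rr.map (J.isoRightDerivedObj p' q).inv := by
  let J₀ := injectiveResolution X
  let d := InjectiveResolution.desc (𝟙 X) J₀ J
  have hd : J.ι.f 0 ≫ d.f 0 = 𝟙 X ≫ J₀.ι.f 0 := InjectiveResolution.desc_commutes_zero (𝟙 X) J₀ J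
  rw [DerivedBC.bcMor_eq α₀ a q I (φ ≫ (R'.mapHomologicalComplex _).map d) (by
      rw [HomologicalComplex.comp_f, reassoc_of% hφ, DerivedBC.mapAug_f_zero, DerivedBC.mapAug_f_zero]
      exact (Category.assoc _ _ _).trans (a ≫= ((R'.map_comp _ _).symm.trans
        (congrArg R'.map (hd.trans (Category.id_comp _))))))]
  have h1 : (J.isoRightDerivedObj p' q).inv =
      (homologyFunctor B' (ComplexShape.up ℕ) q).map ((p'.mapHomologicalComplex _).map d) ≫
        (J₀.isoRightDerivedObj p' q).inv :=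
    (Eq.trans (by simp) (InjectiveResolution.isoRightDerivedObj_inv_naturality (𝟙 X) J J₀ d hd p' q))
  refine congrArg (_ ≫ ·) ?_
  refine Eq.trans ?_ (_ ≫= (_ ≫= ((congrArg Rr.map h1).trans (Rr.map_comp _ _)).symm))
  refine Eq.trans ?_ (_ ≫= ((eq_whisker
    (DerivedBC.homologyComparison_natural Rr ((p'.mapHomologicalComplex _).map d) q) _).trans
      (Category.assoc _ _ _)))
  refine Eq.trans ?_ (_ ≫= (Category.assoc _ _ _).symm)
  refine Eq.trans ?_ (Category.assoc _ _ _)
  refine eq_whisker ?_ _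
  refine Eq.trans (congrArg _ ?_) ((homologyFunctor B (ComplexShape.up ℕ) q).map_comp _ _)
  rw [Functor.map_comp, Category.assoc, Category.assoc]
  exact _ ≫= (NatTrans.mapHomologicalComplex α₀ _).naturality d

/-- The transposed base change map. -/
def bc (G : A) (q : ℕ) : L.obj ((p.rightDerived q).obj G) ⟶ (p'.rightDerived q).obj (L'.obj G) :=
  (aL.homEquiv _ _).symm (DerivedBC.bcMor (G := G) α₀ (aL'.unit.app G) q)

theorem bc_natural {F G : A} (f : F ⟶ G) (q : ℕ) :
    L.map ((p.rightDerived q).map f) ≫ bc aL aL' α₀ G q =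
      bc aL aL' α₀ F q ≫ (p'.rightDerived q).map (L'.map f) := by
  rw [bc, bc, ← Adjunction.homEquiv_naturality_left_symm,
    ← Adjunction.homEquiv_naturality_right_symm, DerivedBC.bcMor_map]
  refine congrArg _ ?_
  rw [DerivedBC.bcMor, DerivedBC.bcMor, ← Functor.map_comp_assoc]
  exact congrArg (fun m => (p.rightDerived q).map m ≫ _) (aL'.unit.naturality f)

/-- The map on resolutions induced by a comparison. -/
def cK (I : CochainComplex A ℕ) {J : CochainComplex A' ℕ}
    (t : (L'.mapHomologicalComplex (ComplexShape.up ℕ)).obj I ⟶ J) :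
    (L.mapHomologicalComplex (ComplexShape.up ℕ)).obj
      ((p.mapHomologicalComplex (ComplexShape.up ℕ)).obj I) ⟶
      (p'.mapHomologicalComplex (ComplexShape.up ℕ)).obj J :=
  (NatTrans.mapHomologicalComplex (BCCmp.Degree.bNat aL aL' α₀) (ComplexShape.up ℕ)).app I ≫
    (p'.mapHomologicalComplex (ComplexShape.up ℕ)).map t

theorem cK_natural {I I₂ : CochainComplex A ℕ} {J J₂ : CochainComplex A' ℕ}
    (t : (L'.mapHomologicalComplex (ComplexShape.up ℕ)).obj I ⟶ J)
    (t₂ : (L'.mapHomologicalComplex (ComplexShape.up ℕ)).obj I₂ ⟶ J₂) (u : I ⟶ I₂) (v : J ⟶ J₂)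
    (h : t ≫ v = (L'.mapHomologicalComplex _).map u ≫ t₂) :
    cK aL aL' α₀ I t ≫ (p'.mapHomologicalComplex _).map v =
      (L.mapHomologicalComplex _).map ((p.mapHomologicalComplex _).map u) ≫ cK aL aL' α₀ I₂ t₂ := by
  rw [cK, cK, Category.assoc]
  refine (_ ≫= (((p'.mapHomologicalComplex _).map_comp t v).symm.trans
    ((congrArg (fun m => (p'.mapHomologicalComplex _).map m) h).trans
      ((p'.mapHomologicalComplex _).map_comp _ _)))).trans ?_
  refine (Category.assoc _ _ _).symm.trans ((eq_whisker ?_ _).trans (Category.assoc _ _ _))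
  exact ((NatTrans.mapHomologicalComplex (BCCmp.Degree.bNat aL aL' α₀) _).naturality u).symm

set_option maxHeartbeats 1600000 in
/-- The base change map on any pair of resolutions. -/
theorem key {G : A} (q : ℕ) (I : InjectiveResolution G) (J : InjectiveResolution (L'.obj G))
    (t : (L'.mapHomologicalComplex (ComplexShape.up ℕ)).obj I.cocomplex ⟶ J.cocomplex)
    (ht : L'.map (I.ι.f 0) ≫ t.f 0 = J.ι.f 0) :
    RDer.homologyComparison L ((p.mapHomologicalComplex (ComplexShape.up ℕ)).obj I.cocomplex) q ≫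
        L.map (I.isoRightDerivedObj p q).inv ≫ bc aL aL' α₀ G q =
      homologyMap (cK aL aL' α₀ I.cocomplex t) q ≫ (J.isoRightDerivedObj p' q).inv := by
  let φ := (Groth.Agent.Lib.DerCat.DerAdj.adjC aL' (ComplexShape.up ℕ)).homEquiv _ _ t
  have hφ : ∀ n, φ.f n = aL'.homEquiv _ _ (t.f n) := fun n => by
    simp only [φ, Adjunction.homEquiv_unit]
    rfl
  let x := (p.mapHomologicalComplex _).map φ ≫
    (NatTrans.mapHomologicalComplex α₀ (ComplexShape.up ℕ)).app J.cocomplex
  have hx : (L.mapHomologicalComplex _).map x ≫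
      (NatTrans.mapHomologicalComplex aL.counit _).app ((p'.mapHomologicalComplex _).obj J.cocomplex) =
      cK aL aL' α₀ I.cocomplex t := by
    ext n
    change L.map (p.map (φ.f n) ≫ α₀.app (J.cocomplex.X n)) ≫
        aL.counit.app _ = (aL.homEquiv _ _).symm (p.map (aL'.unit.app (I.cocomplex.X n)) ≫
          α₀.app (L'.obj (I.cocomplex.X n))) ≫ p'.map (t.f n)
    refine (aL.homEquiv_counit _ _ _).symm.trans ?_
    refine Eq.trans ?_ (aL.homEquiv_naturality_right_symm _ _)
    refine congrArg (aL.homEquiv _ _).symm ?_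
    refine Eq.trans ?_ ((_ ≫= α₀.naturality (t.f n)).trans (Category.assoc _ _ _).symm)
    refine Eq.trans ?_ (Category.assoc _ _ _)
    exact eq_whisker ((congrArg p.map ((hφ n).trans
      (aL'.homEquiv_unit _ _ _))).trans (p.map_comp _ _)) _
  rw [bc, bcMor_eq' α₀ (aL'.unit.app G) q I J φ (by
    rw [hφ, DerivedBC.mapAug_f_zero]
    exact (aL'.homEquiv_naturality_left _ _).symm.trans
      ((congrArg (aL'.homEquiv _ _) ht).trans (aL'.homEquiv_unit _ _ _)))]
  rw [Adjunction.homEquiv_naturality_left_symm, ← Functor.map_comp_assoc]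
  refine (congrArg (fun m => RDer.homologyComparison L _ q ≫ L.map m ≫ _) (Iso.inv_hom_id _)).trans ?_
  rw [CategoryTheory.Functor.map_id, Category.id_comp]
  refine (congrArg (fun m => RDer.homologyComparison L _ q ≫ m)
    ((congrArg (aL.homEquiv _ _).symm (Category.assoc _ _ _).symm).trans
      (aL.homEquiv_naturality_right_symm _ _))).trans ?_
  refine (Category.assoc _ _ _).symm.trans (eq_whisker ?_ _)
  have key := DerivedBC.homologyComparison_counit aL
    (K := (p.mapHomologicalComplex (ComplexShape.up ℕ)).obj I.cocomplex)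
    (L := (p'.mapHomologicalComplex (ComplexShape.up ℕ)).obj J.cocomplex) x q
  exact key.trans (congrArg
    (fun m : (L.mapHomologicalComplex (ComplexShape.up ℕ)).obj
        ((p.mapHomologicalComplex (ComplexShape.up ℕ)).obj I.cocomplex) ⟶
        (p'.mapHomologicalComplex (ComplexShape.up ℕ)).obj J.cocomplex =>
      (homologyFunctor B' (ComplexShape.up ℕ) q).map m) hx)

variable [PreservesFiniteColimits L]

/-- The source of the map on homology. -/
def srcIso {G : A} (I : InjectiveResolution G) (q : ℕ) :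
    ((L.mapHomologicalComplex (ComplexShape.up ℕ)).obj
      ((p.mapHomologicalComplex (ComplexShape.up ℕ)).obj I.cocomplex)).homology q ≅
      L.obj ((p.rightDerived q).obj G) :=
  have := DerivedBC.isIso_homologyComparison L
    ((p.mapHomologicalComplex (ComplexShape.up ℕ)).obj I.cocomplex) q
  asIso (RDer.homologyComparison L ((p.mapHomologicalComplex (ComplexShape.up ℕ)).obj I.cocomplex) q)
    ≪≫ L.mapIso (I.isoRightDerivedObj p q).symm

theorem key_iso {G : A} (q : ℕ) (I : InjectiveResolution G) (J : InjectiveResolution (L'.obj G))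
    (t : (L'.mapHomologicalComplex (ComplexShape.up ℕ)).obj I.cocomplex ⟶ J.cocomplex)
    (ht : L'.map (I.ι.f 0) ≫ t.f 0 = J.ι.f 0) :
    (srcIso (p := p) (L := L) I q).hom ≫ bc aL aL' α₀ G q =
      homologyMap (cK aL aL' α₀ I.cocomplex t) q ≫ (J.isoRightDerivedObj p' q).inv :=
  (Category.assoc _ _ _).trans (key aL aL' α₀ q I J t ht)

theorem prop_iff (P : MorphismProperty B') [P.RespectsIso] {G : A} (q : ℕ)
    (I : InjectiveResolution G) (J : InjectiveResolution (L'.obj G))
    (t : (L'.mapHomologicalComplex (ComplexShape.up ℕ)).obj I.cocomplex ⟶ J.cocomplex)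
    (ht : L'.map (I.ι.f 0) ≫ t.f 0 = J.ι.f 0) :
    P (bc aL aL' α₀ G q) ↔ P (homologyMap (cK aL aL' α₀ I.cocomplex t) q) := by
  refine (P.cancel_left_of_respectsIso (srcIso (p := p) (L := L) I q).hom _).symm.trans ?_
  rw [key_iso aL aL' α₀ q I J t ht]
  exact P.cancel_right_of_respectsIso _ _

variable [PreservesFiniteLimits L'] [PreservesFiniteColimits L']

/-- Postcomposition of arrows with `L'`. -/
abbrev La (L' : A ⥤ A') : ComposableArrows A 1 ⥤ ComposableArrows A' 1 :=
  (Functor.whiskeringRight (Fin 2) A A').obj L'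

omit [EnoughInjectives A] [EnoughInjectives A'] in
theorem preservesHomology_La : (La L').PreservesHomology :=
  haveI : PreservesFiniteLimits (La L') := ⟨fun _ _ _ => ⟨fun {_} => ⟨fun hc =>
    ⟨evaluationJointlyReflectsLimits _ fun i =>
      isLimitOfPreserves L' (isLimitOfPreserves ((evaluation (Fin 2) A).obj i) hc)⟩⟩⟩⟩
  haveI : PreservesFiniteColimits (La L') := ⟨fun _ _ _ => ⟨fun {_} => ⟨fun hc =>
    ⟨evaluationJointlyReflectsColimits _ fun i =>
      isColimitOfPreserves L' (isColimitOfPreserves ((evaluation (Fin 2) A).obj i) hc)⟩⟩⟩⟩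
  inferInstance

variable {S : ShortComplex A} (R : InjectiveResolution (ComposableArrows.mk₁ S.g))
  (JR : InjectiveResolution (ComposableArrows.mk₁ (S.map L').g))

/-- A comparison of the resolutions of the arrows. -/
def tR : ((La L').mapHomologicalComplex (ComplexShape.up ℕ)).obj R.cocomplex ⟶ JR.cocomplex :=
  haveI := preservesHomology_La (L' := L')
  haveI : QuasiIso (RDer.mapAug (La L') R.ι) := by
    unfold RDer.mapAug
    infer_instance
  RDer.descToInjectives (ComposableArrows.homMk₁ (F := (La L').obj (ComposableArrows.mk₁ S.g))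
    (G := ComposableArrows.mk₁ (L'.map S.g)) (𝟙 _) (𝟙 _)
        ((Category.comp_id _).trans (Category.id_comp _).symm))
    _ (RDer.mapAug (La L') R.ι) _ JR.ι

theorem tR_zero (i : Fin 2) :
    L'.map ((R.ι.f 0).app i) ≫ ((tR (L' := L') R JR).f 0).app i =
      (ComposableArrows.homMk₁ (F := (La L').obj (ComposableArrows.mk₁ S.g))
        (G := ComposableArrows.mk₁ (L'.map S.g)) (𝟙 _) (𝟙 _)
        ((Category.comp_id _).trans (Category.id_comp _).symm)).app i ≫
          (JR.ι.f 0).app i := by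
  haveI := preservesHomology_La (L' := L')
  haveI : QuasiIso (RDer.mapAug (La L') R.ι) := by
    unfold RDer.mapAug
    infer_instance
  have h := congrArg (fun m => m.app i) (RDer.ι_descToInjectives_f_zero
    (ComposableArrows.homMk₁ (F := (La L').obj (ComposableArrows.mk₁ S.g))
      (G := ComposableArrows.mk₁ (L'.map S.g)) (𝟙 _) (𝟙 _)
        ((Category.comp_id _).trans (Category.id_comp _).symm))
    _ (RDer.mapAug (La L') R.ι) _ JR.ι)
  rw [DerivedBC.mapAug_f_zero] at h
  exact h

/-- The comparison for the middle term. -/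
def t₂ : (L'.mapHomologicalComplex (ComplexShape.up ℕ)).obj (T₂ R) ⟶ T₂ (S := S.map L') JR where
  f n := ((tR (L' := L') R JR).f n).app 0
  comm' i j _ := congrArg (fun m => m.app 0) ((tR (L' := L') R JR).comm i j)

/-- The comparison for the last term. -/
def t₃ : (L'.mapHomologicalComplex (ComplexShape.up ℕ)).obj (T₃ R) ⟶ T₃ (S := S.map L') JR where
  f n := ((tR (L' := L') R JR).f n).app 1
  comm' i j _ := congrArg (fun m => m.app 1) ((tR (L' := L') R JR).comm i j)

theorem t₂_Tg : t₂ R JR ≫ Tg (S := S.map L') JR = (L'.mapHomologicalComplex _).map (Tg R) ≫ t₃ R JR := by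
  ext n
  exact (ComposableArrows.naturality' ((tR (L' := L') R JR).f n) 0 1).symm

/-- The comparison for the first term. -/
def t₁ : (L'.mapHomologicalComplex (ComplexShape.up ℕ)).obj (T R).X₁ ⟶
    (T (S := S.map L') JR).X₁ :=
  kernel.lift (Tg (S := S.map L') JR) ((L'.mapHomologicalComplex _).map (T R).f ≫ t₂ R JR) (by
    rw [Category.assoc, t₂_Tg, ← Functor.map_comp_assoc, (T R).zero, Functor.map_zero, zero_comp])

theorem t₁_f : t₁ R JR ≫ (T (S := S.map L') JR).f =
    (L'.mapHomologicalComplex _).map (T R).f ≫ t₂ R JR :=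
  kernel.lift_ι _ _ _

theorem t₂_zero : L'.map ((res₂ R).ι.f 0) ≫ (t₂ R JR).f 0 = (res₂ (S := S.map L') JR).ι.f 0 := by
  change L'.map ((aug₂ R).f 0) ≫ _ = (aug₂ (S := S.map L') JR).f 0
  rw [aug₂_f_zero, aug₂_f_zero]
  exact (tR_zero R JR 0).trans (Category.id_comp _)

theorem t₃_zero : L'.map ((res₃ R).ι.f 0) ≫ (t₃ R JR).f 0 = (res₃ (S := S.map L') JR).ι.f 0 := by
  change L'.map ((aug₃ R).f 0) ≫ _ = (aug₃ (S := S.map L') JR).f 0
  rw [aug₃_f_zero, aug₃_f_zero]
  exact (tR_zero R JR 1).trans (Category.id_comp _)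

theorem t₁_zero : L'.map ((aug₁ R).f 0) ≫ (t₁ R JR).f 0 = (aug₁ (S := S.map L') JR).f 0 := by
  obtain ⟨sp⟩ := exists_splitting (S := S.map L') JR 0
  have hm : Mono ((T (S := S.map L') JR).f.f 0) := SplitMono.mono ⟨sp.r, sp.f_r⟩
  refine (cancel_mono ((T (S := S.map L') JR).f.f 0)).1 ?_
  refine (Category.assoc _ _ _).trans ((_ ≫= congrArg (fun m => m.f 0) (t₁_f R JR)).trans ?_)
  refine Eq.trans ?_ (aug₁_f_zero (S := S.map L') JR).symm
  exact (Category.assoc _ _ _).symm.trans ((eq_whisker ((L'.map_comp _ _).symm.trans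
    ((congrArg (fun m => L'.map m) (aug₁_f_zero R)).trans (L'.map_comp _ _))) _).trans
      ((Category.assoc _ _ _).trans (_ ≫= t₂_zero R JR)))

/-- The source short complex. -/
abbrev Ksrc : ShortComplex (CochainComplex B' ℕ) :=
  ((T R).map (p.mapHomologicalComplex (ComplexShape.up ℕ))).map
    (L.mapHomologicalComplex (ComplexShape.up ℕ))

/-- The target short complex. -/
abbrev Ktgt : ShortComplex (CochainComplex B' ℕ) :=
  (T (S := S.map L') JR).map (p'.mapHomologicalComplex (ComplexShape.up ℕ))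

/-- The ladder. -/
def χ : Ksrc (p := p) (L := L) R ⟶ Ktgt (p' := p') (L' := L') JR where
  τ₁ := cK aL aL' α₀ _ (t₁ R JR)
  τ₂ := cK aL aL' α₀ _ (t₂ R JR)
  τ₃ := cK aL aL' α₀ _ (t₃ R JR)
  comm₁₂ := cK_natural aL aL' α₀ _ _ (T R).f _ (t₁_f R JR)
  comm₂₃ := cK_natural aL aL' α₀ _ _ (Tg R) _ (t₂_Tg R JR)

theorem shortExact_map {D : Type u₄} [Category.{v₄} D] [Abelian D] {C : Type u₁} [Category.{v₁} C]
    [Abelian C] (F : C ⥤ D) [F.Additive] (Q : ShortComplex (CochainComplex C ℕ))
    (hQ : ∀ i, Nonempty (Q.map (HomologicalComplex.eval C (.up ℕ) i)).Splitting) :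
    (Q.map (F.mapHomologicalComplex (ComplexShape.up ℕ))).ShortExact :=
  HomologicalComplex.shortExact_of_degreewise_shortExact _ fun i => ((hQ i).some.map F).shortExact

theorem shortExact_Ksrc : (Ksrc (p := p) (L := L) R).ShortExact :=
  HomologicalComplex.shortExact_of_degreewise_shortExact _ fun i =>
    (((exists_splitting R i).some.map p).map L).shortExact

theorem shortExact_Ktgt : (Ktgt (p' := p') (L' := L') JR).ShortExact :=
  HomologicalComplex.shortExact_of_degreewise_shortExact _ fun i =>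
    ((exists_splitting (S := S.map L') JR i).some.map p').shortExact

omit R JR in
/-- The base change map is a monomorphism one degree up. -/
theorem mono_bc (hS : S.ShortExact) (r : ℕ) (h0 : IsZero ((p.rightDerived (r + 1)).obj S.X₂))
    (h1 : Epi (bc aL aL' α₀ S.X₂ r)) (h2 : Mono (bc aL aL' α₀ S.X₃ r)) :
    Mono (bc aL aL' α₀ S.X₁ (r + 1)) := by
  let R := injectiveResolution (ComposableArrows.mk₁ S.g)
  let JR := injectiveResolution (ComposableArrows.mk₁ (S.map L').g)
  have hS' : (S.map L').ShortExact := hS.map_of_exact L'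
  refine (prop_iff aL aL' α₀ (.monomorphisms _) (r + 1) (res₁ R hS) (res₁ (S := S.map L') JR hS')
    (t₁ R JR) (t₁_zero R JR)).2 (mono_τ₁ (χ aL aL' α₀ R JR) (shortExact_Ksrc R) (shortExact_Ktgt JR)
      r (r + 1) rfl ?_ ?_ ?_)
  · exact (prop_iff aL aL' α₀ (.epimorphisms _) r (res₂ R) (res₂ (S := S.map L') JR)
      (t₂ R JR) (t₂_zero R JR)).1 h1
  · exact (prop_iff aL aL' α₀ (.monomorphisms _) r (res₃ R) (res₃ (S := S.map L') JR)
      (t₃ R JR) (t₃_zero R JR)).1 h2
  · exact (prop_iff aL aL' α₀ (.monomorphisms _) (r + 1) (res₂ R) (res₂ (S := S.map L') JR)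
      (t₂ R JR) (t₂_zero R JR)).1 ⟨fun _ _ _ => (L.map_isZero h0).eq_of_tgt _ _⟩

omit R JR in
/-- The map on cokernels is a monomorphism. -/
theorem exists_mono_cokernel (hS : S.ShortExact) (r : ℕ) (h1 : Epi (bc aL aL' α₀ S.X₃ r))
    (h2 : Mono (bc aL aL' α₀ S.X₃ (r + 1))) :
    ∃ φ : cokernel (bc aL aL' α₀ S.X₁ (r + 1)) ⟶ cokernel (bc aL aL' α₀ S.X₂ (r + 1)), Mono φ ∧
      cokernel.π (bc aL aL' α₀ S.X₁ (r + 1)) ≫ φ =
        (p'.rightDerived (r + 1)).map (L'.map S.f) ≫ cokernel.π (bc aL aL' α₀ S.X₂ (r + 1)) := by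
  let R := injectiveResolution (ComposableArrows.mk₁ S.g)
  let JR := injectiveResolution (ComposableArrows.mk₁ (S.map L').g)
  have hS' : (S.map L').ShortExact := hS.map_of_exact L'
  let I₁ := res₁ R hS
  let I₂ := res₂ R
  let J₁ := res₁ (S := S.map L') JR hS'
  let J₂ := res₂ (S := S.map L') JR
  haveI : Epi (homologyMap (χ aL aL' α₀ R JR).τ₃ r) :=
    (prop_iff aL aL' α₀ (.epimorphisms _) r (res₃ R) (res₃ (S := S.map L') JR)
      (t₃ R JR) (t₃_zero R JR)).1 h1
  haveI : Mono (homologyMap (χ aL aL' α₀ R JR).τ₃ (r + 1)) :=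
    (prop_iff aL aL' α₀ (.monomorphisms _) (r + 1) (res₃ R) (res₃ (S := S.map L') JR)
      (t₃ R JR) (t₃_zero R JR)).1 h2
  let φ : cokernel (bc aL aL' α₀ S.X₁ (r + 1)) ⟶ cokernel (bc aL aL' α₀ S.X₂ (r + 1)) :=
    cokernel.map _ _ (L.map ((p.rightDerived (r + 1)).map S.f))
      ((p'.rightDerived (r + 1)).map (L'.map S.f)) (bc_natural aL aL' α₀ S.f (r + 1)).symm
  have hφ : cokernel.π (bc aL aL' α₀ S.X₁ (r + 1)) ≫ φ =
      (p'.rightDerived (r + 1)).map (L'.map S.f) ≫ cokernel.π (bc aL aL' α₀ S.X₂ (r + 1)) :=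
    cokernel.π_desc _ _ _
  refine ⟨φ, ?_, hφ⟩
  apply Preadditive.mono_of_cancel_zero
  intro Z x hx
  obtain ⟨Z₁, π₁, _, y, hy⟩ := surjective_up_to_refinements_of_epi (cokernel.π _) x
  have h0 : (y ≫ (p'.rightDerived (r + 1)).map (L'.map S.f)) ≫
      cokernel.π (bc aL aL' α₀ S.X₂ (r + 1)) = 0 :=
    (Category.assoc _ _ _).trans ((y ≫= hφ.symm).trans ((Category.assoc _ _ _).symm.trans
      ((eq_whisker hy.symm φ).trans ((Category.assoc _ _ _).trans ((π₁ ≫= hx).trans comp_zero)))))
  obtain ⟨Z₂, π₂, _, z, hz⟩ := (ShortComplex.exact_of_g_is_cokernel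
    (ShortComplex.mk _ _ (cokernel.condition (bc aL aL' α₀ S.X₂ (r + 1))))
    (cokernelIsCokernel _)).exact_up_to_refinements _ h0
  dsimp at hz
  have hn : homologyMap (Ktgt (p' := p') (L' := L') JR).f (r + 1) ≫
      (J₂.isoRightDerivedObj p' (r + 1)).inv = (J₁.isoRightDerivedObj p' (r + 1)).inv ≫
        (p'.rightDerived (r + 1)).map (L'.map S.f) :=
    (InjectiveResolution.isoRightDerivedObj_inv_naturality (L'.map S.f) J₁ J₂
      (T (S := S.map L') JR).f (aug₁_f_zero (S := S.map L') JR) p' (r + 1)).symm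
  obtain ⟨Z₃, π₃, _, u, hu⟩ := chase (χ aL aL' α₀ R JR) (shortExact_Ksrc R) (shortExact_Ktgt JR)
    r (r + 1) rfl (π₂ ≫ y ≫ (J₁.isoRightDerivedObj p' (r + 1)).hom)
    (z ≫ (srcIso (p := p) (L := L) I₂ (r + 1)).inv) (by
      refine (cancel_mono (J₂.isoRightDerivedObj p' (r + 1)).inv).1 ?_
      refine (Category.assoc _ _ _).trans ((_ ≫= hn).trans ?_)
      refine Eq.trans ?_ (Category.assoc _ _ _).symm
      refine Eq.trans ?_ (_ ≫= key_iso aL aL' α₀ (r + 1) I₂ J₂ (t₂ R JR) (t₂_zero R JR))
      simp only [Category.assoc]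
      exact ((π₂ ≫= (y ≫= (Iso.hom_inv_id_assoc _ _))).trans hz).trans
        (z ≫= (Iso.inv_hom_id_assoc _ _).symm))
  rw [← cancel_epi π₁, comp_zero, hy, ← cancel_epi π₂, comp_zero, ← cancel_epi π₃, comp_zero]
  have h3 : π₃ ≫ π₂ ≫ y = (u ≫ (srcIso (p := p) (L := L) I₁ (r + 1)).hom) ≫
      bc aL aL' α₀ S.X₁ (r + 1) := by
    refine Eq.trans ?_ (Category.assoc _ _ _).symm
    refine Eq.trans ?_ (u ≫= (key_iso aL aL' α₀ (r + 1) I₁ J₁ (t₁ R JR) (t₁_zero R JR)).symm)
    refine Eq.trans ?_ ((eq_whisker hu _).trans (Category.assoc _ _ _))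
    simp only [Category.assoc]
    exact π₃ ≫= (π₂ ≫= ((Category.comp_id y).symm.trans (y ≫= (Iso.hom_inv_id _).symm)))
  rw [reassoc_of% h3, cokernel.condition]
  simp

end BC

end Groth.Agent.H41.BCMonoAlg

end
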