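import Groth.Agent.H41.RelPicLfp
import Groth.Agent.Lib.PicBdd.Core
import Groth.Agent.Lib.Ample.CoprodModule
import Groth.Agent.Lib.Ample.GG
import Groth.Agent.Lib.GrpSch.Orbit
import Groth.Agent.Lib.CohDelta.IdealMul.FinPush
import Groth.Agent.Lib.TFNodal.Spread
import Groth.Agent.Lib.ShStab.SubLattice
import Mathlib.AlgebraicGeometry.AlgClosed.Basic

/-!
# Bounded families of invertible modules and quasi-compact opens of the Picard scheme
-/

set_option autoImplicit false
set_option linter.style.haveILetI false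

universe u

open CategoryTheory CategoryTheory.Limits AlgebraicGeometry

namespace Groth.Agent.H41.BddRelPic

open Groth.Agent Groth.Agent.Lib

/-- Coherent modules on two disjoint clopen pieces glue. -/
theorem exists_coh_glue {Z A B : Scheme.{u}} [IsLocallyNoetherian Z] (i : A ⟶ Z) [IsOpenImmersion i]
    [IsClosedImmersion i] (j : B ⟶ Z) [IsOpenImmersion j] [IsClosedImmersion j]
    (hd : Disjoint (Set.range i) (Set.range j)) {L : A.Modules} (hL : Coh.IsCoh L) {L' : B.Modules}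
    (hL' : Coh.IsCoh L') : ∃ M : Z.Modules, Coh.IsCoh M ∧
      Nonempty ((Scheme.Modules.pullback i).obj M ≅ L) ∧ Nonempty ((Scheme.Modules.pullback j).obj M ≅ L') := by
  let P := (Scheme.Modules.pushforward i).obj L
  let Q := (Scheme.Modules.pushforward j).obj L'
  haveI : PreservesBinaryBiproduct P Q (Scheme.Modules.restrictFunctor i) :=
    preservesBinaryBiproduct_of_preservesBinaryCoproduct _
  haveI : PreservesBinaryBiproduct P Q (Scheme.Modules.restrictFunctor j) :=
    preservesBinaryBiproduct_of_preservesBinaryCoproduct _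
  refine ⟨P ⊞ Q, ?_, ⟨?_⟩, ⟨?_⟩⟩
  · exact ShStab.SubLattice.isCoh_iso (biprod.isoCoprod P Q).symm (TFNodal.Spread.isCoh_coprod
      (CohDelta.IdealMul.FinPush.isCoh_push i hL) (CohDelta.IdealMul.FinPush.isCoh_push j hL'))
  · exact ((Scheme.Modules.restrictFunctorIsoPullback i).app (P ⊞ Q)).symm ≪≫
      (Scheme.Modules.restrictFunctor i).mapBiprod P Q ≪≫
      (isoBiprodZero (X := P.restrict i) (Ample.Coprod.isZero_restrict_pushforward i j hd L')).symm ≪≫
      (Scheme.Modules.restrictFunctorAdjCounitIso i).app L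
  · exact ((Scheme.Modules.restrictFunctorIsoPullback j).app (P ⊞ Q)).symm ≪≫
      (Scheme.Modules.restrictFunctor j).mapBiprod P Q ≪≫ biprod.braiding _ _ ≪≫
      (isoBiprodZero (X := Q.restrict j) (Ample.Coprod.isZero_restrict_pushforward j i hd.symm L)).symm ≪≫
      (Scheme.Modules.restrictFunctorAdjCounitIso j).app L'

/-- The point of `L`. -/
noncomputable abbrev pPt {X S : Scheme.{u}} (f : X ⟶ S) {P : Over S}
    (φ : ∀ T : Over S, PicF.Cl (PicF.XT f T) → (T ⟶ P)) (L : X.Modules) : Over.mk (𝟙 S) ⟶ P :=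
  φ (Over.mk (𝟙 S)) (PicF.pullCl (pullback.fst f (𝟙 S)) (PicF.cl L))

variable (k : Type u) [Field k] {X : Scheme.{u}} [X.Over (Spec (CommRingCat.of k))]

local notation3 "S₀" => Spec (CommRingCat.of k)
local notation3 "fX" => X ↘ Spec (CommRingCat.of k)

/-- Closed subsets of schemes locally of finite type over an algebraically closed field have rational points. -/
theorem exists_point_mem [IsAlgClosed k] {X : Over S₀} [LocallyOfFiniteType X.hom] {W : Set X.left} (hW : IsClosed W)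
    (hne : W.Nonempty) : ∃ y : Over.mk (𝟙 S₀) ⟶ X, Set.range y.left ⊆ W := by
  have : JacobsonSpace X.left := LocallyOfFiniteType.jacobsonSpace X.hom
  obtain ⟨c, hcW, hc⟩ := nonempty_inter_closedPoints hne hW.isLocallyClosed
  refine ⟨Over.homMk (pointOfClosedPoint X.hom c hc) (pointOfClosedPoint_comp X.hom c hc), ?_⟩
  rintro _ ⟨s, rfl⟩
  change pointOfClosedPoint X.hom c hc s ∈ W
  exact (pointOfClosedPoint_apply X.hom c hc s).symm ▸ hcW

set_option backward.isDefEq.respectTransparency.types false in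
/-- The union of two bounded families is bounded. -/
theorem isBounded_or [IsProper fX] {P Q : X.Modules → Prop} (hP : Pic13.IsBounded k X P)
    (hQ : Pic13.IsBounded k X Q) : Pic13.IsBounded k X fun L => P L ∨ Q L := by
  obtain ⟨T, q, h1, h2, F, hF, hP⟩ := hP
  obtain ⟨T', q', h1', h2', F', hF', hQ⟩ := hQ
  haveI := h1; haveI := h2; haveI := h1'; haveI := h2'
  let r : T ⨿ T' ⟶ S₀ := coprod.desc q q'
  have hlr : (coprod.inl : T ⟶ T ⨿ T') ≫ r = q := coprod.inl_desc _ _
  have hrr : (coprod.inr : T' ⟶ T ⨿ T') ≫ r = q' := coprod.inr_desc _ _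
  haveI hr : LocallyOfFiniteType r :=
    IsZariskiLocalAtSource.of_openCover (P := @LocallyOfFiniteType.{u}) (coprodOpenCover.{u, 0} T T') (by
      rintro (_ | _)
      · exact hlr.symm ▸ h1
      · exact hrr.symm ▸ h1')
  haveI : CompactSpace T := QuasiCompact.compactSpace_of_compactSpace q
  haveI : CompactSpace T' := QuasiCompact.compactSpace_of_compactSpace q'
  haveI : CompactSpace ↥(T ⨿ T') := by
    rw [← isCompact_univ_iff, ← Set.top_eq_univ, ← (isCompl_range_inl_inr T T').sup_eq_top]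
    exact (isCompact_range (coprod.inl : T ⟶ T ⨿ T').continuous).union
      (isCompact_range (coprod.inr : T' ⟶ T ⨿ T').continuous)
  haveI hrc : QuasiCompact r := (quasiCompact_iff_compactSpace r).2 ‹_›
  let g : Pic13.prodK k X q ⟶ Pic13.prodK k X r :=
    pullback.map fX q fX r (𝟙 _) coprod.inl (𝟙 _) (by simp) (by simp [hlr])
  let g' : Pic13.prodK k X q' ⟶ Pic13.prodK k X r :=
    pullback.map fX q' fX r (𝟙 _) coprod.inr (𝟙 _) (by simp) (by simp [hrr])
  have sq : IsPullback g (pullback.snd fX q) (pullback.snd fX r) coprod.inl := by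
    refine IsPullback.of_right ?_ (pullback.lift_snd _ _ _) (IsPullback.of_hasPullback fX r)
    rw [hlr, show g ≫ pullback.fst fX r = pullback.fst fX q from
      (pullback.lift_fst _ _ _).trans (Category.comp_id _)]
    exact IsPullback.of_hasPullback fX q
  have sq' : IsPullback g' (pullback.snd fX q') (pullback.snd fX r) coprod.inr := by
    refine IsPullback.of_right ?_ (pullback.lift_snd _ _ _) (IsPullback.of_hasPullback fX r)
    rw [hrr, show g' ≫ pullback.fst fX r = pullback.fst fX q' from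
      (pullback.lift_fst _ _ _).trans (Category.comp_id _)]
    exact IsPullback.of_hasPullback fX q'
  haveI : IsOpenImmersion g := MorphismProperty.of_isPullback sq.flip (show IsOpenImmersion coprod.inl by infer_instance)
  haveI : IsClosedImmersion g := MorphismProperty.of_isPullback sq.flip (Ample.Coprod.isClosedImmersion_inl)
  haveI : IsOpenImmersion g' := MorphismProperty.of_isPullback sq'.flip (show IsOpenImmersion coprod.inr by infer_instance)
  haveI : IsClosedImmersion g' := MorphismProperty.of_isPullback sq'.flip (Ample.Coprod.isClosedImmersion_inr)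
  haveI : IsLocallyNoetherian (Pic13.prodK k X r) :=
    LocallyOfFiniteType.isLocallyNoetherian (pullback.snd fX r ≫ r)
  have hd : Disjoint (Set.range g) (Set.range g') := by
    rw [Set.disjoint_left]
    rintro _ ⟨a, rfl⟩ ⟨b, hb⟩
    refine (isCompl_range_inl_inr T T').disjoint.ne_of_mem ⟨pullback.snd fX q a, rfl⟩
      ⟨pullback.snd fX q' b, rfl⟩ ?_
    rw [← Scheme.Hom.comp_apply, ← sq.w, Scheme.Hom.comp_apply, ← hb, ← Scheme.Hom.comp_apply, sq'.w,
      Scheme.Hom.comp_apply]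
  obtain ⟨M, hM, ⟨eM⟩, ⟨eM'⟩⟩ := exists_coh_glue g g' hd hF hF'
  refine ⟨T ⨿ T', r, hr, hrc, M, hM, ?_⟩
  rintro L (hL | hL)
  · obtain ⟨t, ht, ⟨e⟩⟩ := hP L hL
    have ht' : (t ≫ coprod.inl) ≫ r = 𝟙 _ := by rw [Category.assoc, hlr, ht]
    refine ⟨t ≫ coprod.inl, ht', ⟨?_ ≪≫ e⟩⟩
    refine (Scheme.Modules.pullbackCongr (g := Pic13.sliceAt k X q t ht ≫ g) ?_).app M ≪≫
      ((Scheme.Modules.pullbackComp _ g).app M).symm ≪≫ (Scheme.Modules.pullback _).mapIso eM
    apply pullback.hom_ext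
    · rw [Category.assoc, show g ≫ pullback.fst fX r = pullback.fst fX q from
        (pullback.lift_fst _ _ _).trans (Category.comp_id _)]
      exact (pullback.lift_fst _ _ _).trans (pullback.lift_fst _ _ _).symm
    · rw [Category.assoc, show g ≫ pullback.snd fX r = pullback.snd fX q ≫ coprod.inl from pullback.lift_snd _ _ _,
        ← Category.assoc]
      refine (pullback.lift_snd _ _ _).trans ?_
      refine Eq.trans ?_ (congrArg (· ≫ coprod.inl) (pullback.lift_snd _ _ _).symm)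
      exact (Category.assoc _ _ _).symm
  · obtain ⟨t, ht, ⟨e⟩⟩ := hQ L hL
    have ht' : (t ≫ coprod.inr) ≫ r = 𝟙 _ := by rw [Category.assoc, hrr, ht]
    refine ⟨t ≫ coprod.inr, ht', ⟨?_ ≪≫ e⟩⟩
    refine (Scheme.Modules.pullbackCongr (g := Pic13.sliceAt k X q' t ht ≫ g') ?_).app M ≪≫
      ((Scheme.Modules.pullbackComp _ g').app M).symm ≪≫ (Scheme.Modules.pullback _).mapIso eM'
    apply pullback.hom_ext
    · rw [Category.assoc, show g' ≫ pullback.fst fX r = pullback.fst fX q' from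
        (pullback.lift_fst _ _ _).trans (Category.comp_id _)]
      exact (pullback.lift_fst _ _ _).trans (pullback.lift_fst _ _ _).symm
    · rw [Category.assoc, show g' ≫ pullback.snd fX r = pullback.snd fX q' ≫ coprod.inr from pullback.lift_snd _ _ _,
        ← Category.assoc]
      refine (pullback.lift_snd _ _ _).trans ?_
      refine Eq.trans ?_ (congrArg (· ≫ coprod.inr) (pullback.lift_snd _ _ _).symm)
      exact (Category.assoc _ _ _).symm

theorem isBounded_false [IsProper fX] : Pic13.IsBounded k X fun _ => False := by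
  haveI : IsLocallyNoetherian (Pic13.prodK k X (𝟙 S₀)) :=
    LocallyOfFiniteType.isLocallyNoetherian (pullback.snd fX (𝟙 S₀))
  exact ⟨S₀, 𝟙 _, inferInstance, inferInstance, Coh.structureModule _,
    Ample.GG.isCoh_of_isInvertible ((PicLoc.isInvertible_structureModule _)), fun _ h => h.elim⟩

theorem isBounded_exists [IsProper fX] {α : Type*} (s : Finset α) (R : α → X.Modules → Prop)
    (hR : ∀ a ∈ s, Pic13.IsBounded k X (R a)) : Pic13.IsBounded k X fun L => ∃ a ∈ s, R a L := by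
  classical
  induction s using Finset.induction_on with
  | empty => exact BddFam.Presented.mono k (fun L ⟨a, ha, _⟩ => absurd ha (Finset.notMem_empty a)) (isBounded_false k)
  | insert a s ha ih =>
    refine BddFam.Presented.mono k (fun L ⟨b, hb, hb'⟩ => ?_) (isBounded_or k (hR a (Finset.mem_insert_self a s))
      (ih fun b hb => hR b (Finset.mem_insert_of_mem hb)))
    rcases Finset.mem_insert.1 hb with rfl | h
    · exact Or.inl hb'
    · exact Or.inr ⟨b, h, hb'⟩

variable {P : Over (Spec (CommRingCat.of k))} {φ : ∀ T : Over (Spec (CommRingCat.of k)), PicF.Cl (PicF.XT (X ↘ Spec (CommRingCat.of k)) T) → (T ⟶ P)}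
  (hP : PicRel.IsRelPic (X ↘ Spec (CommRingCat.of k)) P φ)

include hP in
/-- The point of a fibre of an invertible class is the image of the parameter point. -/
theorem pPt_eq {T : Over S₀} (c : PicF.Cl (PicF.XT fX T)) (hc : PicF.IsInvertibleCl c) (t : S₀ ⟶ T.left)
    (ht : t ≫ T.hom = 𝟙 _) (L : X.Modules) (h : PicF.pullCl (Pic13.sliceAt k X T.hom t ht) c = PicF.cl L) :
    pPt fX φ L = (Over.homMk t ht : Over.mk (𝟙 S₀) ⟶ T) ≫ φ T c := by
  rw [← hP.natural T (Over.mk (𝟙 S₀)) (Over.homMk t ht) c hc]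
  refine congrArg (φ _) ?_
  rw [← h, ← PicLoc.pullCl_comp]
  congr 1
  apply pullback.hom_ext
  · rw [Category.assoc, RelPicLfp.XTmap_fst]
    exact (congrArg (pullback.fst fX (𝟙 S₀) ≫ ·) (pullback.lift_fst _ _ _)).trans (Category.comp_id _)
  · rw [Category.assoc, RelPicLfp.XTmap_snd]
    refine (congrArg (pullback.fst fX (𝟙 S₀) ≫ ·) (pullback.lift_snd _ _ _)).trans ?_
    rw [← Category.assoc, pullback.condition, Category.comp_id]
    rfl

include hP in
theorem exists_qc_open_of_isBounded [IsAlgClosed k] [IsProper fX] (Q : X.Modules → Prop)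
    (hQ : ∀ L, Q L → PicF.IsInvertible L) (hb : Pic13.IsBounded k X Q) :
    ∃ U : P.left.Opens, IsCompact (U : Set P.left) ∧ ∀ L, Q L → Set.range (pPt fX φ L).left ⊆ U := by
  classical
  obtain ⟨ps, hps⟩ := PicBdd.Core.exists_covers k hb
  let g : ∀ p : PicBdd.Strata.Piece k X, Over.mk p.q ⟶ P := fun p => φ (Over.mk p.q) (PicF.cl p.M)
  let K : Set P.left := ⋃ p ∈ ps.toFinset, Set.range (g p).left
  have hK : IsCompact K := ps.toFinset.isCompact_biUnion fun p _ =>
    have := p.qc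
    have : CompactSpace ↥(Over.mk p.q).left := QuasiCompact.compactSpace_of_compactSpace p.q
    isCompact_range (g p).left.continuous
  obtain ⟨s, hs⟩ := hK.elim_finite_subcover (fun V : P.left.affineOpens => (V.1 : Set P.left))
    (fun V => V.1.isOpen) (fun x _ => by
      obtain ⟨V, hV, hx, -⟩ := exists_isAffineOpen_mem_and_subset (show x ∈ (⊤ : P.left.Opens) from trivial)
      exact Set.mem_iUnion.2 ⟨⟨V, hV⟩, hx⟩)
  refine ⟨⟨⋃ V ∈ s, (V.1 : Set P.left), isOpen_biUnion fun V _ => V.1.isOpen⟩,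
    s.isCompact_biUnion fun V _ => V.2.isCompact, fun L hL => ?_⟩
  obtain ⟨p, hp, t, ht, ⟨e⟩⟩ := hps L hL (hQ L hL)
  have hc : PicF.IsInvertibleCl (PicF.cl p.M) := ⟨p.M, rfl, p.inv⟩
  rw [pPt_eq k hP (T := Over.mk p.q) (PicF.cl p.M) hc t ht L (Quot.sound ⟨e⟩)]
  rintro _ ⟨x, rfl⟩
  exact hs (Set.mem_biUnion (List.mem_toFinset.2 hp) ⟨t x, rfl⟩)

include hP in
/-- Two classes on `X` with the same `k`-point are equal. -/
theorem cl_eq_of_pPt_eq [IsAlgClosed k] (L L' : X.Modules) (hL : PicF.IsInvertible L) (hL' : PicF.IsInvertible L')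
    (h : pPt fX φ L = pPt fX φ L') : Nonempty (L ≅ L') := by
  let b := pullback.fst fX (𝟙 S₀)
  have hb1 : PicF.IsInvertibleCl (PicF.pullCl b (PicF.cl L)) :=
    PicLoc.isInvertibleCl_pullCl b (c := PicF.cl L) ⟨L, rfl, hL⟩
  have hb2 : PicF.IsInvertibleCl (PicF.pullCl b (PicF.cl L')) :=
    PicLoc.isInvertibleCl_pullCl b (c := PicF.cl L') ⟨L', rfl, hL'⟩
  have hloc := hP.locallyInjective (Over.mk (𝟙 S₀)) (PicF.pullCl b (PicF.cl L)) (PicF.pullCl b (PicF.cl L')) hb1 hb2
  obtain ⟨ι, U, hU, he⟩ := hloc h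
  obtain ⟨i, y, -⟩ := hU (IsLocalRing.closedPoint k)
  let W : Over S₀ := Over.mk (U i).hom
  haveI : Etale W.hom := (U i).prop
  haveI : LocallyOfFiniteType W.hom := inferInstance
  obtain ⟨σ, -⟩ := exists_point_mem k (X := W) isClosed_univ ⟨y, trivial⟩
  have hσ : σ.left ≫ (U i).hom = 𝟙 _ := Over.w σ
  let τ : Over.mk (𝟙 S₀) ⟶ PicRel.ovr (Over.mk (𝟙 S₀)) (U i) :=
    Over.homMk σ.left (by exact (congrArg (σ.left ≫ ·) (Category.comp_id _)).trans hσ)
  have hτ : τ ≫ PicRel.ovrHom (Over.mk (𝟙 S₀)) (U i) = 𝟙 _ := Over.OverMorphism.ext hσ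
  have e := congrArg (PicF.pullCl (PicF.XTmap fX τ)) (he i)
  rw [← PicLoc.pullCl_comp, ← PicLoc.pullCl_comp, ← PicLoc.pullCl_comp, ← PicLoc.pullCl_comp,
    ← PicGrp.XTmap_comp, hτ, PicGrp.XTmap_id] at e
  let b' : X ⟶ PicF.XT fX (Over.mk (𝟙 S₀)) :=
    pullback.lift (𝟙 X) fX ((Category.id_comp _).trans (Category.comp_id _).symm)
  have hb : b' ≫ 𝟙 _ ≫ b = 𝟙 X := by rw [Category.id_comp]; exact pullback.lift_fst _ _ _
  have e' := congrArg (PicF.pullCl b') e
  rw [← PicLoc.pullCl_comp, ← PicLoc.pullCl_comp, hb, PicLoc.pullCl_id, PicLoc.pullCl_id] at e'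
  exact (PicGrp.cl_eq_cl_iff L L').1 e'

include hP in
theorem isBounded_of_qc_open [IsAlgClosed k] [IsProper fX] (Q : X.Modules → Prop)
    (hQ : ∀ L, Q L → PicF.IsInvertible L) (U : P.left.Opens) (hU : IsCompact (U : Set P.left))
    (h : ∀ L, Q L → Set.range (pPt fX φ L).left ⊆ U) : Pic13.IsBounded k X Q := by
  classical
  haveI : LocallyOfFinitePresentation P.hom :=
    RelPicLfp.lfp_of_isLimitPreserving P (RelPicLfp.isLimitPreserving_rep hP)
  let T₀ : Over S₀ := Over.mk (U.ι ≫ P.hom)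
  let g₀ : T₀ ⟶ P := Over.homMk U.ι
  obtain ⟨ι, V, hV, he⟩ := hP.locallySurjective T₀ g₀
  choose c hc hφ using he
  let α := Σ i : ι, (V i).left.affineOpens
  let w : ∀ a : α, Over S₀ := fun a => Over.mk (a.2.1.ι ≫ (V a.1).hom ≫ T₀.hom)
  let wm : ∀ a : α, w a ⟶ PicRel.ovr T₀ (V a.1) := fun a => Over.homMk a.2.1.ι
  haveI hV' : ∀ i, Etale (V i).hom := fun i => (V i).prop
  haveI : CompactSpace ↥U := isCompact_iff_compactSpace.1 hU
  haveI : CompactSpace T₀.left := (isCompact_iff_compactSpace (s := (U : Set P.left))).1 hU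
  have hopen : ∀ a : α, IsOpen (Set.range (a.2.1.ι ≫ (V a.1).hom)) := fun a =>
    (a.2.1.ι ≫ (V a.1).hom).isOpenMap.isOpen_range
  obtain ⟨s, hs⟩ := isCompact_univ.elim_finite_subcover (fun a : α => Set.range (a.2.1.ι ≫ (V a.1).hom)) hopen
    (fun x _ => by
      obtain ⟨i, y, hy⟩ := hV x
      obtain ⟨W, hW, hyW, -⟩ := exists_isAffineOpen_mem_and_subset (show y ∈ (⊤ : (V i).left.Opens) from trivial)
      exact Set.mem_iUnion.2 ⟨⟨i, W, hW⟩, ⟨y, hyW⟩, hy⟩)
  have hcov : ∀ L, Q L → ∃ a ∈ s, ∃ (t : S₀ ⟶ (w a).left) (ht : t ≫ (w a).hom = 𝟙 _),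
      (Over.homMk t ht : Over.mk (𝟙 S₀) ⟶ w a) ≫ wm a ≫ PicRel.ovrHom T₀ (V a.1) ≫ g₀ = pPt fX φ L := fun L hL => by
    let l : S₀ ⟶ T₀.left := IsOpenImmersion.lift U.ι (pPt fX φ L).left (by rw [U.range_ι]; exact h L hL)
    have hl : l ≫ U.ι = (pPt fX φ L).left := IsOpenImmersion.lift_fac _ _ _
    have hl' : l ≫ T₀.hom = 𝟙 _ := by
      show l ≫ U.ι ≫ P.hom = _
      rw [← Category.assoc, hl]
      exact Over.w (pPt fX φ L)
    obtain ⟨a, ha, y, hy⟩ := Set.mem_iUnion₂.1 (hs (Set.mem_univ (l (IsLocalRing.closedPoint k))))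
    haveI : LocallyOfFiniteType (w a).hom :=
      inferInstanceAs (LocallyOfFiniteType (a.2.1.ι ≫ (V a.1).hom ≫ U.ι ≫ P.hom))
    have hcl : IsClosed ({l (IsLocalRing.closedPoint k)} : Set T₀.left) := by
      haveI : LocallyOfFiniteType T₀.hom := inferInstanceAs (LocallyOfFiniteType (U.ι ≫ P.hom))
      exact (pointEquivClosedPoint T₀.hom ⟨l, hl'⟩).2
    haveI : IsAffine (w a).left := a.2.2
    obtain ⟨t, ht⟩ := exists_point_mem k (X := w a)
      (W := (a.2.1.ι ≫ (V a.1).hom) ⁻¹' {l (IsLocalRing.closedPoint k)})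
      (hcl.preimage (a.2.1.ι ≫ (V a.1).hom).continuous) ⟨y, hy⟩
    refine ⟨a, ha, t.left, Over.w t, Over.OverMorphism.ext ?_⟩
    haveI : LocallyOfFiniteType T₀.hom := inferInstanceAs (LocallyOfFiniteType (U.ι ≫ P.hom))
    have key : t.left ≫ a.2.1.ι ≫ (V a.1).hom = l :=
      ext_of_apply_closedPoint_eq T₀.hom (by rw [Category.assoc, Category.assoc]; exact Over.w t) hl'
        (ht ⟨IsLocalRing.closedPoint k, rfl⟩)
    show t.left ≫ a.2.1.ι ≫ (V a.1).hom ≫ U.ι = _
    rw [← hl, ← key, Category.assoc, Category.assoc]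
  refine BddFam.Presented.mono k (Q := fun L => ∃ a ∈ s, Q L ∧ ∃ (t : S₀ ⟶ (w a).left) (ht : t ≫ (w a).hom = 𝟙 _),
      (Over.homMk t ht : Over.mk (𝟙 S₀) ⟶ w a) ≫ wm a ≫ PicRel.ovrHom T₀ (V a.1) ≫ g₀ = pPt fX φ L)
    (fun L hL => by obtain ⟨a, ha, ha'⟩ := hcov L hL; exact ⟨a, ha, hL, ha'⟩) (isBounded_exists k s _ fun a _ => ?_)
  haveI : IsAffine (w a).left := a.2.2
  haveI hft : LocallyOfFiniteType (w a).hom :=
    inferInstanceAs (LocallyOfFiniteType (a.2.1.ι ≫ (V a.1).hom ≫ U.ι ≫ P.hom))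
  let d := PicF.pullCl (PicF.XTmap fX (wm a)) (c a.1)
  have hd : PicF.IsInvertibleCl d := PicLoc.isInvertibleCl_pullCl _ (hc a.1)
  obtain ⟨M, hMd, hMi⟩ := id hd
  haveI : IsLocallyNoetherian (Pic13.prodK k X (w a).hom) :=
    LocallyOfFiniteType.isLocallyNoetherian (pullback.snd fX (w a).hom ≫ (w a).hom)
  refine ⟨(w a).left, (w a).hom, hft, inferInstance, M, Ample.GG.isCoh_of_isInvertible hMi,
    fun L ⟨hL, t, ht, hpt⟩ => ⟨t, ht, ?_⟩⟩
  obtain ⟨e⟩ := cl_eq_of_pPt_eq k hP L (Pic13.fibreMod k X (w a).hom t ht M) (hQ L hL)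
    (PicLoc.isInvertible_pullback _ hMi) (by
      rw [← hpt, pPt_eq k hP d hd t ht _ (by rw [← hMd]; rfl), hP.natural _ _ _ _ (hc a.1), hφ])
  exact ⟨e.symm⟩

end Groth.Agent.H41.BddRelPic
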