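import Groth.Agent.H26.BlowSmooth
import Groth.Agent.Lib.QCoh.Stalk
import Groth.Agent.H18.CMPoly
import Groth.Agent.H20.CMDim
import Groth.Agent.Lib.Ideal.BlowUp
import Groth.Agent.Lib.Regular45.QuasiReg
import Groth.Prelude.Def_RegImm

/-!
# The blow-up of a Cohen–Macaulay scheme in a regular centre is Cohen–Macaulay
-/

set_option autoImplicit false
set_option linter.style.haveILetI false

universe u

open IsLocalRing RingTheory.Sequence CAlgX MvPolynomial
open Groth.Agent.Lib

namespace Groth.Agent.H41.BlowUpCM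

/-- Localisation commutes with quotients. -/
theorem nonempty_quot_localization {R R₁ : Type u} [CommRing R] [CommRing R₁] (ρ : R →+* R₁)
    (hρ : Function.Surjective ρ) (P : Ideal R₁) [P.IsPrime] :
    Nonempty ((Localization.AtPrime (P.comap ρ) ⧸
      (RingHom.ker ρ).map (algebraMap R (Localization.AtPrime (P.comap ρ)))) ≃+*
        Localization.AtPrime P) := by
  have hT : Submonoid.map ρ (P.comap ρ).primeCompl = P.primeCompl := by
    ext y
    constructor
    · rintro ⟨x, hx, rfl⟩; exact hx
    · intro hy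
      obtain ⟨x, rfl⟩ := hρ y
      exact ⟨x, hy, rfl⟩
  haveI : IsLocalization ((P.comap ρ).primeCompl.map ρ) (Localization.AtPrime P) := hT.symm ▸ inferInstance
  let θ : Localization.AtPrime (P.comap ρ) →+* Localization.AtPrime P :=
    IsLocalization.map (Localization.AtPrime P) ρ (hT.symm ▸ (P.comap ρ).primeCompl.le_comap_map)
  have hs : Function.Surjective θ :=
    IsLocalization.map_surjective_of_surjective (Localization.AtPrime (P.comap ρ))
      (M := (P.comap ρ).primeCompl) (Localization.AtPrime P) hρ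
  exact ⟨(Ideal.quotEquivOfEq (IsLocalization.ker_map (Localization.AtPrime P) ρ hT).symm).trans
    (RingHom.quotientKerEquivOfSurjective hs)⟩

/-- The quotient of a Cohen–Macaulay ring by a regular sequence. -/
theorem isCohenMacaulayRing_quotient {A A₁ : Type u} [CommRing A] [CommRing A₁]
    [LocCoh.IsCohenMacaulayRing A] (q : A →+* A₁) (hq : Function.Surjective q) (rs : List A)
    (hrs : IsWeaklyRegular A rs) (hk : RingHom.ker q = Ideal.ofList rs) :
    LocCoh.IsCohenMacaulayRing A₁ := by
  haveI : IsNoetherianRing A₁ := isNoetherianRing_of_surjective A A₁ q hq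
  refine { isCohenMacaulayLocalRing_localization := fun P hP => ?_ }
  obtain ⟨e⟩ := nonempty_quot_localization q hq P
  let p := P.comap q
  let L := Localization.AtPrime p
  haveI : LocCoh.IsCohenMacaulayLocalRing L :=
    LocCoh.IsCohenMacaulayRing.isCohenMacaulayLocalRing_localization p
  let rs' := rs.map (algebraMap A L)
  have hmem : ∀ r ∈ rs', r ∈ maximalIdeal L := by
    intro r hr
    obtain ⟨a, ha, rfl⟩ := List.mem_map.mp hr
    refine (IsLocalization.AtPrime.to_map_mem_maximal_iff L p a).mpr ?_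
    show q a ∈ P
    rw [show q a = 0 from by rw [← RingHom.mem_ker, hk]; exact Ideal.subset_span ha]
    exact zero_mem _
  have hreg : IsWeaklyRegular L rs' :=
    hrs.of_isLocalizedModule L p.primeCompl (Algebra.linearMap A L)
  have hJ : (RingHom.ker q).map (algebraMap A L) = Ideal.ofList rs' := by
    rw [hk, Ideal.map_ofList]
  let e' : (L ⧸ Ideal.ofList rs') ≃+* Localization.AtPrime P :=
    (Ideal.quotEquivOfEq hJ.symm).trans e
  haveI : IsLocalRing (L ⧸ Ideal.ofList rs') := e'.symm.isLocalRing
  have h := (Depth.CM.isCohenMacaulayModule_congr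
    (Submodule.quotEquivOfEq _ (Ideal.ofList rs') (by rw [smul_eq_mul, Ideal.mul_top]))).mp
    (Groth.Agent.H20.CMDim.isCohenMacaulayModule_quotient_ofList
      (Depth.CM.isCohenMacaulayModule_self (R := L)) rs' hmem hreg)
  haveI := (Depth.CM.isCohenMacaulayLocalRing_quotient_iff_module (Ideal.ofList rs')).mpr h
  exact Excellent.Transport.isCohenMacaulayLocalRing_of_ringEquiv e'

/-- Cohen–Macaulayness lifts from the quotient by a non-zero-divisor. -/
theorem localRing_of_quotient {R : Type u} [CommRing R] [IsNoetherianRing R] (g : R)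
    (hgn : g ∈ nonZeroDivisors R) [LocCoh.IsCohenMacaulayRing (R ⧸ Ideal.span {g})]
    (P : Ideal R) [P.IsPrime] (hP : g ∈ P) :
    LocCoh.IsCohenMacaulayLocalRing (Localization.AtPrime P) := by
  let J : Ideal R := Ideal.span {g}
  let P₁ : Ideal (R ⧸ J) := P.map (Ideal.Quotient.mk J)
  have hJP : J ≤ P := (Ideal.span_singleton_le_iff_mem _).mpr hP
  haveI : P₁.IsPrime :=
    Ideal.map_isPrime_of_surjective Ideal.Quotient.mk_surjective (by rwa [Ideal.mk_ker])
  have hc : P₁.comap (Ideal.Quotient.mk J) = P := by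
    rw [Ideal.comap_map_of_surjective _ Ideal.Quotient.mk_surjective,
      ← RingHom.ker_eq_comap_bot, Ideal.mk_ker, sup_eq_left.mpr hJP]
  obtain ⟨e₁⟩ := nonempty_quot_localization (Ideal.Quotient.mk J) Ideal.Quotient.mk_surjective P₁
  let p := P₁.comap (Ideal.Quotient.mk J)
  let L := Localization.AtPrime p
  have hJL : (RingHom.ker (Ideal.Quotient.mk J)).map (algebraMap R L) =
      Ideal.span {algebraMap R L g} := by
    rw [Ideal.mk_ker, Ideal.map_span, Set.image_singleton]
  let e₂ : (L ⧸ Ideal.span {algebraMap R L g}) ≃+* Localization.AtPrime P₁ :=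
    (Ideal.quotEquivOfEq hJL.symm).trans e₁
  haveI : IsLocalRing (L ⧸ Ideal.span {algebraMap R L g}) := e₂.symm.isLocalRing
  haveI := LocCoh.IsCohenMacaulayRing.isCohenMacaulayLocalRing_localization P₁
  have hCM : LocCoh.IsCohenMacaulayLocalRing (L ⧸ Ideal.span {algebraMap R L g}) :=
    Excellent.Transport.isCohenMacaulayLocalRing_of_ringEquiv e₂.symm
  have hg : IsSMulRegular R g := fun x y hxy =>
    (mul_cancel_left_mem_nonZeroDivisors
      hgn).mp hxy
  have hgm : algebraMap R L g ∈ maximalIdeal L :=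
    (IsLocalization.AtPrime.to_map_mem_maximal_iff L p g).mpr (hc.ge hP)
  haveI : LocCoh.IsCohenMacaulayLocalRing L :=
    (Depth.CM.isCohenMacaulayLocalRing_quotient_span_singleton_iff hgm
      (hg.of_isLocalizedModule L p.primeCompl (Algebra.linearMap R L))).mp hCM
  haveI : IsLocalization p.primeCompl (Localization.AtPrime P) := by
    have : p.primeCompl = P.primeCompl := Submonoid.ext fun x => by
      show x ∉ p ↔ x ∉ P
      rw [show p = P from hc]
    rw [this]; infer_instance
  exact Excellent.Transport.isCohenMacaulayLocalRing_of_ringEquiv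
    (IsLocalization.algEquiv p.primeCompl L (Localization.AtPrime P)).toRingEquiv

/-- The charts of a blow-up in a regular centre: Cohen–Macaulay along the exceptional divisor. -/
theorem chart_localRing {A : Type u} [CommRing A] [LocCoh.IsCohenMacaulayRing A] {c : ℕ}
    (a : Fin c → A) (ha : IsWeaklyRegular A (List.ofFn a)) (j : Fin c)
    (P : Ideal (BlowUp.affineAlgebra A (Ideal.span (Set.range a)) (a j))) [P.IsPrime]
    (hP : algebraMap A (BlowUp.affineAlgebra A (Ideal.span (Set.range a)) (a j)) (a j) ∈ P) :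
    LocCoh.IsCohenMacaulayLocalRing (Localization.AtPrime P) := by
  have hqr : IsQuasiRegular a := Regular45.QuasiReg.quasiRegular_of_isWeaklyRegular a ha
  let I := Ideal.span (Set.range a)
  let R := BlowUp.affineAlgebra A I (a j)
  let g : R := algebraMap A R (a j)
  let J : Ideal R := Ideal.span {g}
  let σ := {i : Fin c // i ≠ j}
  let q : A →+* A ⧸ I := Ideal.Quotient.mk I
  have hqI : ∀ x ∈ I, q x = 0 := fun x hx => Ideal.Quotient.eq_zero_iff_mem.mpr hx
  haveI : IsNoetherianRing R :=
    isNoetherianRing_of_surjective _ R (H26.BlowChart.evalChart a j).toRingHom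
      (H26.BlowChart.evalChart_surjective a j)
  let θ : MvPolynomial σ A →+* R ⧸ J :=
    (Ideal.Quotient.mk J).comp (H26.BlowChart.evalChart a j).toRingHom
  have hθ : RingHom.ker θ = RingHom.ker (MvPolynomial.map (σ := σ) q) := by
    refine le_antisymm (fun f hf => ?_) ?_
    · exact H26.BlowChart.map_eq_zero_of_mem hqr q hqI f (Ideal.Quotient.eq_zero_iff_mem.mp hf)
    · rw [MvPolynomial.ker_map, Ideal.mk_ker, Ideal.map_le_iff_le_comap]
      intro x hx
      show θ (MvPolynomial.C x) = 0
      refine Ideal.Quotient.eq_zero_iff_mem.mpr ?_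
      show H26.BlowChart.evalChart a j (MvPolynomial.C x) ∈ J
      rw [show H26.BlowChart.evalChart a j (MvPolynomial.C x) = algebraMap A R x from
        AlgHom.commutes _ x]
      exact (BlowUpExists.map_ideal_eq_span I (a j) (H26.BlowChart.mem_span_range a j)).le
        (Ideal.mem_map_of_mem _ hx)
  let e : MvPolynomial σ (A ⧸ I) ≃+* R ⧸ J :=
    ((RingHom.quotientKerEquivOfSurjective
        (MvPolynomial.map_surjective (σ := σ) q Ideal.Quotient.mk_surjective)).symm.trans
      (Ideal.quotEquivOfEq hθ.symm)).trans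
      (RingHom.quotientKerEquivOfSurjective
        (Ideal.Quotient.mk_surjective.comp (H26.BlowChart.evalChart_surjective a j) :
          Function.Surjective θ))
  haveI : LocCoh.IsCohenMacaulayRing (A ⧸ I) :=
    isCohenMacaulayRing_quotient q Ideal.Quotient.mk_surjective (List.ofFn a) ha
      (by rw [Ideal.mk_ker]; exact congrArg Ideal.span (Set.ext fun x => (List.mem_ofFn' a x).symm))
  obtain ⟨n, ⟨ε⟩⟩ := Finite.exists_equiv_fin σ
  haveI := H18.CMPoly.mvPolynomial (A ⧸ I) n
  haveI : LocCoh.IsCohenMacaulayRing (R ⧸ J) :=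
    Excellent.Transport.isoInvariant_isCohenMacaulayRing _ _
      ((MvPolynomial.renameEquiv (A ⧸ I) ε).symm.toRingEquiv.trans e) inferInstance
  exact localRing_of_quotient g (BlowUpExists.algebraMap_gen_mem_nonZeroDivisors I (a j)) P hP

section Scheme

open AlgebraicGeometry CategoryTheory

/-- The stalks of the blow-up. -/
theorem stalk_cohenMacaulay {W T : Scheme.{u}} [IsLocallyNoetherian W]
    (hcm : ∀ w : W, LocCoh.IsCohenMacaulayLocalRing (W.presheaf.stalk w))
    (I : W.IdealSheafData) (hI : RegImm.IsRegularIdeal RegImm.Kind.regular I)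
    (π : T ⟶ W) (hπ : BlowUp.IsBlowUp π I) (t : T) :
    LocCoh.IsCohenMacaulayLocalRing (T.presheaf.stalk t) := by
  by_cases ht : t ∈ (I.comap π).support
  swap
  · haveI := hcm (π t)
    exact Excellent.Transport.isCohenMacaulayLocalRing_of_ringEquiv
      (RingEquiv.ofBijective (π.stalkMap t).hom (Ideal.BlowUp.bijective_stalkMap_off hπ t ht))
  have hw : π t ∈ I.support := by rwa [Scheme.IdealSheafData.support_comap] at ht
  obtain ⟨U, hwU, rs, hrs, hIU⟩ := hI (π t) hw
  haveI : IsNoetherianRing Γ(W, U.1) := IsLocallyNoetherian.component_noetherian U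
  haveI : LocCoh.IsCohenMacaulayRing Γ(W, U.1) := by
    refine { isCohenMacaulayLocalRing_localization := fun p hp => ?_ }
    let q : ↥(Spec Γ(W, U.1)) := (⟨p, hp⟩ : PrimeSpectrum Γ(W, U.1))
    have hxU : U.2.fromSpec q ∈ U.1 := U.2.range_fromSpec.le (Set.mem_range_self q)
    haveI := U.2.isOpenImmersion_fromSpec
    have hq : U.2.primeIdealOf ⟨_, hxU⟩ = q :=
      U.2.fromSpec.isOpenEmbedding.injective (U.2.fromSpec_primeIdealOf ⟨_, hxU⟩)
    letI := W.presheaf.algebra_section_stalk (⟨_, hxU⟩ : U.1)
    have := U.2.isLocalization_stalk ⟨_, hxU⟩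
    rw [hq] at this
    haveI : IsLocalization p.primeCompl (W.presheaf.stalk (U.2.fromSpec q)) := this
    haveI := hcm (U.2.fromSpec q)
    exact Excellent.Transport.isCohenMacaulayLocalRing_of_ringEquiv
      (IsLocalization.algEquiv p.primeCompl (W.presheaf.stalk (U.2.fromSpec q))
        (Localization.AtPrime p)).toRingEquiv
  have hreg : IsWeaklyRegular Γ(W, U.1) (List.ofFn rs.get) := by
    rw [List.ofFn_get]; exact (show IsRegular Γ(W, U.1) rs from hrs).toIsWeaklyRegular
  have hspan : I.ideal U = Ideal.span (Set.range rs.get) := by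
    rw [hIU, Ideal.ofList, Set.range_list_get]
  obtain ⟨j, D, hD, hDU, e, htD, he⟩ := H26.BlowSmooth.exists_chart hπ t hwU rs.get hspan
  let 𝔭 := (hD.primeIdealOf ⟨t, htD⟩).asIdeal
  letI := T.presheaf.algebra_section_stalk (⟨t, htD⟩ : D)
  haveI := hD.isLocalization_stalk ⟨t, htD⟩
  let P := 𝔭.comap e.toRingHom
  haveI : P.IsPrime := Ideal.IsPrime.comap _
  have hmem : algebraMap Γ(W, U.1) _ (rs.get j) ∈ P := by
    show e (algebraMap Γ(W, U.1) _ (rs.get j)) ∈ 𝔭
    rw [he]
    have hz : rs.get j ∈ I.ideal U := hspan.ge (_root_.Ideal.subset_span ⟨j, rfl⟩)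
    by_contra hne
    have h1 : t ∈ T.basicOpen (π.appLE U.1 D hDU (rs.get j)) :=
      (QCoh.Stalk.mem_primeIdealOf_compl_iff hD htD _).mp hne
    rw [Scheme.basicOpen_appLE] at h1
    exact (Scheme.mem_zeroLocus_iff _ _ _).mp (I.supportSet_subset_zeroLocus U hw) _ hz h1.2
  haveI := chart_localRing rs.get hreg j P hmem
  have hmap : P.primeCompl.map e.toRingHom = 𝔭.primeCompl := by
    ext y
    constructor
    · rintro ⟨x, hx, rfl⟩; exact hx
    · intro hy
      exact ⟨e.symm y, by show ¬ e (e.symm y) ∈ 𝔭; rwa [e.apply_symm_apply], e.apply_symm_apply y⟩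
  exact @Excellent.Transport.isCohenMacaulayLocalRing_of_ringEquiv (Localization.AtPrime P) (T.presheaf.stalk t)
    _ _ (IsLocalization.ringEquivOfRingEquiv (M := P.primeCompl) (T := 𝔭.primeCompl)
      (Localization.AtPrime P) (T.presheaf.stalk t) e hmap) this

end Scheme

end Groth.Agent.H41.BlowUpCM
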