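import Groth.Agent.Lib.HomFlasque.Basic
import Groth.Agent.Lib.ExtShStalk.Hom
import Groth.Agent.Lib.ExtHH.Basic
import Groth.Agent.Lib.DerivedOX.Grothendieck
import Mathlib.CategoryTheory.Abelian.Injective.Ext
import Mathlib.CategoryTheory.Abelian.RightDerived

/-!
# Vanishing of global `Ext` from vanishing of the sheaf `Ext`
-/

set_option autoImplicit false
set_option linter.style.haveILetI false

universe u

open CategoryTheory Limits AlgebraicGeometry Opposite Abelian

namespace Groth.Agent.H41.ExtLocalGlobal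

open Groth.Agent.Lib

variable {X : Scheme.{u}}

/-- A flasque module has no higher `Ext` from `O_X`. -/
theorem subsingleton_ext_unit_of_flasque (M : X.Modules) [TopCat.Sheaf.IsFlasque (Coh.toAb M)] (q : ℕ) :
    Subsingleton (Ext.{u} (Coh.structureModule X) M (q + 1)) := by
  haveI : TopCat.Sheaf.IsFlasque (Coh.toAb ((𝟭 X.Modules).obj M)) := ‹_›
  haveI : Subsingleton (Coh.HH X ((𝟭 X.Modules).obj M) (q + 1)) := ZarCoh.Basic.H_flasque _ q
  exact (ExtHH.Basic.extHH_bijective (𝟭 X.Modules) (𝟙 (Coh.structureModule X))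
    (fun Y => ⟨fun f g h => ((Category.id_comp f).symm.trans h).trans (Category.id_comp g),
      fun g => ⟨g, Category.id_comp g⟩⟩) (fun I hI => hI) M (q + 1)).injective.subsingleton

/-- If a complex of modules without higher `Ext` from `A` is exact below `p`, its cycles below `p`
have no higher `Ext` from `A`. -/
theorem subsingleton_ext_cycles {C : Type*} [Category* C] [Abelian C] [HasExt.{u} C] (A : C)
    (K : CochainComplex C ℕ) (hK : ∀ j q, Subsingleton (Ext.{u} A (K.X j) (q + 1))) (p : ℕ)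
    (h : ∀ j < p, IsZero (K.homology j)) :
    ∀ j < p, ∀ q, Subsingleton (Ext.{u} A (K.cycles j) (q + 1)) := by
  intro j
  induction j with
  | zero =>
    intro hj q
    have h0 : IsZero (K.cycles 0) := (h 0 hj).of_iso (asIso (K.homologyπ 0))
    haveI : Injective (K.cycles 0) := h0.injective
    exact subsingleton_of_forall_eq 0 fun e => e.eq_zero_of_injective
  | succ j ih =>
    intro hj q
    haveI := ih (by omega) (q + 1)
    let S := ShortComplex.mk (K.iCycles j) (K.toCycles j (j + 1)) (by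
      rw [← cancel_mono (K.iCycles (j + 1))]
      simp)
    haveI : Mono S.f := inferInstanceAs (Mono (K.iCycles j))
    haveI : Epi S.g := Preadditive.epi_of_isZero_cokernel' _
      (K.homologyIsCokernel j (j + 1) (by simp)) (h (j + 1) hj)
    have hS : S.ShortExact :=
      { exact := S.exact_of_f_is_kernel (KernelFork.IsLimit.ofι' _ _ fun k hk =>
          ⟨K.liftCycles k (j + 1) (by simp) (by
            rw [← K.toCycles_i j (j + 1), ← Category.assoc, hk, zero_comp]), K.liftCycles_i _ _ _ _⟩) }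
    haveI : Subsingleton (Ext.{u} A S.X₂ (q + 1)) := hK j q
    haveI : Subsingleton (Ext.{u} A S.X₁ (q + 1 + 1)) := ih (by omega) (q + 1)
    refine subsingleton_of_forall_eq 0 fun e => ?_
    obtain ⟨x, hx⟩ := Ext.covariant_sequence_exact₃ A hS (n₀ := q + 1) e rfl (Subsingleton.elim _ _)
    rw [← hx, Subsingleton.elim x 0, Ext.zero_comp]

/-- A cocycle below `p` is a coboundary after composing from `A`. -/
theorem exists_lift_of_exact {C : Type*} [Category* C] [Abelian C] [HasExt.{u} C] (A : C)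
    (K : CochainComplex C ℕ) (hK : ∀ j q, Subsingleton (Ext.{u} A (K.X j) (q + 1))) (p : ℕ)
    (h : ∀ j < p, IsZero (K.homology j)) (i : ℕ) (hi : i + 1 < p) (g : A ⟶ K.X (i + 1))
    (hg : g ≫ K.d (i + 1) (i + 2) = 0) : ∃ f : A ⟶ K.X i, f ≫ K.d i (i + 1) = g := by
  haveI := subsingleton_ext_cycles A K hK p h i (by omega) 0
  let S := ShortComplex.mk (K.iCycles i) (K.toCycles i (i + 1)) (by
    rw [← cancel_mono (K.iCycles (i + 1))]
    simp)
  haveI : Mono S.f := inferInstanceAs (Mono (K.iCycles i))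
  haveI : Epi S.g := Preadditive.epi_of_isZero_cokernel' _
    (K.homologyIsCokernel i (i + 1) (by simp)) (h (i + 1) hi)
  have hS : S.ShortExact :=
    { exact := S.exact_of_f_is_kernel (KernelFork.IsLimit.ofι' _ _ fun k hk =>
        ⟨K.liftCycles k (i + 1) (by simp) (by
          rw [← K.toCycles_i i (i + 1), ← Category.assoc, hk, zero_comp]), K.liftCycles_i _ _ _ _⟩) }
  haveI : Subsingleton (Ext.{u} A S.X₁ 1) := ‹_›
  obtain ⟨x, hx⟩ := Ext.covariant_sequence_exact₃ A hS (n₀ := 0)
    (Ext.mk₀ (K.liftCycles g (i + 2) (by simp) hg)) (zero_add 1) (Subsingleton.elim _ _)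
  obtain ⟨f, rfl⟩ := (Ext.mk₀_bijective _ _).2 x
  rw [Ext.mk₀_comp_mk₀] at hx
  have h' : f ≫ K.toCycles i (i + 1) = _ := (Ext.mk₀_bijective _ _).1 hx
  refine ⟨f, ?_⟩
  rw [← K.toCycles_i i (i + 1), ← Category.assoc, h', K.liftCycles_i]

/-- Global `Ext` vanishes where the sheaf `Ext`s vanish. -/
theorem subsingleton_ext_of_isZero_extSh (F G : X.Modules) [ModSite.HasSheafHom (O := X.sheaf) F]
    [HasInjectiveResolutions (ModSite.Mod X.sheaf)] [HasExt.{u} X.Modules] (p : ℕ)
    (h : ∀ q < p, IsZero ((ModSite.extSh (O := X.sheaf) F q).obj G)) {i : ℕ} (hi : i < p) :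
    Subsingleton (Ext.{u} F G i) := by
  haveI : HasInjectiveResolutions X.Modules := ‹HasInjectiveResolutions (ModSite.Mod X.sheaf)›
  haveI hD : DCoh.HasSheafHom F := (ExtShStalk.Hom.adj F).isLeftAdjoint
  let T := DCoh.sheafHom F
  let adj := DCoh.sheafHomAdj F
  let eT : ExtShStalk.Hom.R F ≅ T := (ExtShStalk.Hom.adj F).rightAdjointUniq adj
  haveI : (ExtShStalk.Hom.R F).Additive := (ExtShStalk.Hom.adj F).right_adjoint_additive
  haveI : T.Additive := adj.right_adjoint_additive
  let I := injectiveResolution G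
  let K : CochainComplex X.Modules ℕ := (T.mapHomologicalComplex (ComplexShape.up ℕ)).obj I.cocomplex
  have hz : ∀ j < p, IsZero (K.homology j) := fun j hj =>
    (h j hj).of_iso ((HomologicalComplex.homologyFunctor X.Modules (ComplexShape.up ℕ) j).mapIso
      ((NatIso.mapHomologicalComplex eT (ComplexShape.up ℕ)).app I.cocomplex).symm ≪≫
      (I.isoRightDerivedObj (ExtShStalk.Hom.R F) j).symm)
  have hK : ∀ j q, Subsingleton (Ext.{u} (Coh.structureModule X) (K.X j) (q + 1)) := fun j q => by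
    haveI := I.injective j
    haveI : TopCat.Sheaf.IsFlasque (Coh.toAb (K.X j)) :=
      ⟨fun {U V} i => (AddCommGrpCat.epi_iff_surjective _).mpr fun s =>
        HomFlasque.surjective_res_sheafHom F (I.cocomplex.X j) (leOfHom i.unop) s⟩
    exact subsingleton_ext_unit_of_flasque _ q
  let u : ((DCoh.tensorBi (X := X)).obj F).obj (Coh.structureModule X) ≅ F :=
    TensorMod.Basic.rightUnit F
  let t : ∀ Y : X.Modules, (F ⟶ Y) ≃ (Coh.structureModule X ⟶ T.obj Y) := fun Y =>
    (u.symm.homCongr (Iso.refl Y)).trans (adj.homEquiv _ Y)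
  have ht : ∀ {Y Y' : X.Modules} (g : F ⟶ Y) (φ : Y ⟶ Y'), t Y' (g ≫ φ) = t Y g ≫ T.map φ := by
    intro Y Y' g φ
    simp only [t, Equiv.trans_apply, Iso.homCongr_apply, Iso.symm_inv, Iso.refl_hom, Category.comp_id]
    exact (congrArg _ (Category.assoc _ _ _).symm).trans (adj.homEquiv_naturality_right _ _)
  have ht0 : ∀ Y : X.Modules, t Y 0 = 0 := fun Y => by
    have := ht (0 : F ⟶ Y) (0 : Y ⟶ Y)
    simpa using this
  cases i with
  | zero =>
    refine subsingleton_of_forall_eq 0 fun e => ?_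
    obtain ⟨g, rfl⟩ := (Ext.mk₀_bijective _ _).2 e
    have hg : g ≫ I.ι.f 0 = 0 := by
      apply (t _).injective
      rw [ht0]
      have hd : t _ (g ≫ I.ι.f 0) ≫ K.d 0 1 = 0 := by
        change t _ (g ≫ I.ι.f 0) ≫ T.map (I.cocomplex.d 0 1) = 0
        erw [← ht, Category.assoc, I.ι_f_zero_comp_complex_d, comp_zero]
        exact ht0 _
      have hz0 : IsZero (K.cycles 0) := (hz 0 hi).of_iso (asIso (K.homologyπ 0))
      rw [← K.liftCycles_i _ 1 (by simp) hd, hz0.eq_of_tgt (K.liftCycles _ 1 (by simp) hd) 0, zero_comp]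
      rfl
    exact (congrArg Ext.mk₀ ((cancel_mono (I.ι.f 0)).1 (hg.trans zero_comp.symm))).trans (Ext.mk₀_zero _ _)
  | succ i =>
    refine subsingleton_of_forall_eq 0 fun e => ?_
    obtain ⟨g, hg, rfl⟩ := I.extMk_surjective e (i + 2) rfl
    rw [I.extMk_eq_zero_iff g (i + 2) rfl hg i rfl]
    obtain ⟨f, hf⟩ := exists_lift_of_exact (Coh.structureModule X) K hK p hz i hi (t _ g) (by
      change t _ g ≫ T.map (I.cocomplex.d (i + 1) (i + 2)) = 0
      rw [← ht, hg]
      exact ht0 _)
    refine ⟨(t _).symm f, (t _).injective ?_⟩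
    rw [ht]
    exact (congrArg (· ≫ T.map _) ((t _).apply_symm_apply f)).trans hf

end Groth.Agent.H41.ExtLocalGlobal
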