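import Groth.Agent.H41.ExtShRegSeq
import Groth.Agent.H41.ExtLocalGlobal
import Groth.Agent.Lib.ExtShRestrict
import Groth.Agent.Lib.Modules.StalkRestrict
import Groth.Agent.Lib.PushClosed.Unit
import Groth.Prelude.Def_RegImm
import Groth.Agent.Lib.RefHull.LocFree
import Mathlib.RingTheory.Regular.Flat

/-!
# `ℰxt^q(i_*F, E) = 0` below the codimension of a regular immersion
-/

set_option autoImplicit false
set_option linter.style.haveILetI false

universe u

open CategoryTheory Limits AlgebraicGeometry Opposite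

namespace Groth.Agent.H41.ExtPushRegImm

open Groth.Agent.Lib Groth.Agent.Lib.Modules
open scoped Pointwise

variable {X Z : Scheme.{u}}

/-- A sequence starting with a unit is weakly regular. -/
theorem isWeaklyRegular_replicate_one {R : Type u} [CommRing R] :
    ∀ (c : ℕ) (M : Type u) [AddCommGroup M] [Module R M],
      RingTheory.Sequence.IsWeaklyRegular M (List.replicate c (1 : R))
  | 0, M, _, _ => RingTheory.Sequence.IsWeaklyRegular.nil R M
  | c + 1, M, _, _ =>
    (RingTheory.Sequence.isWeaklyRegular_cons_iff M 1 _).2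
      ⟨IsSMulRegular.one M, isWeaklyRegular_replicate_one c _⟩

/-- Around every point: `c` functions vanishing on `Z`, weakly regular on the stalks. -/
theorem exists_chart (i : Z ⟶ X) [IsClosedImmersion i] (c : ℕ)
    (hi : RegImm.IsRegularImmersionOfCodim RegImm.Kind.regular c i) (x : X) :
    ∃ (V : X.Opens) (rs : List Γ(X, V)), x ∈ V ∧ rs.length = c ∧ (∀ r ∈ rs, i.app V r = 0) ∧
      ∀ (y : X) (hy : y ∈ V), RingTheory.Sequence.IsWeaklyRegular (X.presheaf.stalk y)
        (rs.map (X.presheaf.germ V y hy)) := by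
  by_cases hx : x ∈ Set.range i
  · obtain ⟨z, rfl⟩ := hx
    obtain ⟨U, hzU, -, rs, hlen, hreg, hker⟩ := hi.2 z
    refine ⟨U.1, rs, hzU, hlen, fun r hr => ?_, fun y hy => ?_⟩
    · rw [← RingHom.mem_ker, hker]
      exact Ideal.subset_span hr
    · have := U.2.isLocalization_stalk ⟨y, hy⟩
      letI := X.presheaf.algebra_section_stalk ⟨y, hy⟩
      exact hreg.toIsWeaklyRegular.of_isLocalization (X.presheaf.stalk y)
        (U.2.primeIdealOf ⟨y, hy⟩).asIdeal.primeCompl
  · let V : X.Opens := ⟨(Set.range i)ᶜ, i.isClosedEmbedding.isClosed_range.isOpen_compl⟩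
    refine ⟨V, List.replicate c 1, hx, List.length_replicate, fun r hr => ?_, fun y hy => ?_⟩
    · have hV : i ⁻¹ᵁ V = ⊥ := by
        ext z
        exact iff_of_false (fun h => h ⟨z, rfl⟩) id
      haveI : Subsingleton Γ(Z, i ⁻¹ᵁ V) := by rw [hV]; infer_instance
      exact Subsingleton.elim _ _
    · rw [List.map_replicate, map_one]
      exact isWeaklyRegular_replicate_one c _

/-- Functions vanishing on `Z` kill the stalks of a push-forward from `Z`. -/
theorem germ_smul_eq_zero (i : Z ⟶ X) (F : Z.Modules) {V : X.Opens} (r : Γ(X, V))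
    (hr : i.app V r = 0) (y : X) (hy : y ∈ V)
    (w : ((Scheme.Modules.pushforward i).obj F).presheaf.stalk y) :
    X.presheaf.germ V y hy r • w = 0 := by
  obtain ⟨U, hyU, s, rfl⟩ := TopCat.Presheaf.exists_germ_eq
    ((Scheme.Modules.pushforward i).obj F).presheaf w
  rw [← TopCat.Presheaf.germ_res_apply X.presheaf (homOfLE inf_le_left) y (⟨hy, hyU⟩ : y ∈ V ⊓ U) r,
    ← TopCat.Presheaf.germ_res_apply ((Scheme.Modules.pushforward i).obj F).presheaf
      (homOfLE inf_le_right) y (⟨hy, hyU⟩ : y ∈ V ⊓ U) s]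
  refine (StalkModule.germ_smul (M := (Scheme.Modules.pushforward i).obj F)
    (⟨hy, hyU⟩ : y ∈ V ⊓ U) _ _).symm.trans ?_
  refine (congrArg _ ?_).trans (map_zero _)
  generalize ((Scheme.Modules.pushforward i).obj F).presheaf.map (homOfLE inf_le_right).op s = t
  change (i.app (V ⊓ U) (X.presheaf.map (homOfLE inf_le_left).op r)) • (show Γ(F, i ⁻¹ᵁ (V ⊓ U)) from t) = 0
  rw [← ConcreteCategory.comp_apply, Scheme.Hom.naturality, ConcreteCategory.comp_apply, hr, map_zero,
    zero_smul]

/-- Ext sheaves of a push-forward into a locally free module vanish below the codimension. -/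
theorem isZero_extSh (i : Z ⟶ X) [IsClosedImmersion i] (c : ℕ)
    (hi : RegImm.IsRegularImmersionOfCodim RegImm.Kind.regular c i) (E : X.Modules)
    (hE : FlatMod.IsFinLocFree E) (F : Z.Modules)
    [∀ (W : Scheme.{u}) (M : W.Modules), ModSite.HasSheafHom (O := W.sheaf) M]
    [∀ W : Scheme.{u}, HasInjectiveResolutions (ModSite.Mod W.sheaf)] {q : ℕ} (hq : q < c) :
    IsZero ((ModSite.extSh (O := X.sheaf) ((Scheme.Modules.pushforward i).obj F) q).obj E) := by
  refine Stalk.isZero_iff_stalk_subsingleton.2 fun x => ?_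
  obtain ⟨V, rs, hxV, hlen, hker, hwr⟩ := exists_chart i c hi x
  set P := (Scheme.Modules.pushforward i).obj F
  -- the two stalk rings at a point of `V`
  have hgm : ∀ (y : (V : Scheme.{u})) (r : Γ(X, V)),
      ExtShRegSeq.gm y (V.topIso.inv r) = V.ι.stalkMap y (X.presheaf.germ V (V.ι y) y.2 r) := by
    intro y r
    refine Eq.trans ?_ (ConcreteCategory.congr_hom (Scheme.Opens.stalkIso_inv V y)
      (X.presheaf.germ V (V.ι y) y.2 r))
    refine (ConcreteCategory.congr_hom (Scheme.Opens.germ_stalkIso_inv V ⊤ y trivial) _).symm.trans ?_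
    exact congrArg (V.stalkIso y).inv (TopCat.Presheaf.germ_res_apply X.presheaf _ _ _ r)
  have hz : IsZero ((ModSite.extSh (O := (V : Scheme.{u}).sheaf) (P.restrict V.ι) q).obj (E.restrict V.ι)) := by
    refine ExtShRegSeq.isZero_extSh (P.restrict V.ι) (rs.map V.topIso.inv) ?_ (E.restrict V.ι) ?_ q
      (by rwa [List.length_map, hlen])
    · intro r' hr' y m
      obtain ⟨r, hr, rfl⟩ := List.mem_map.1 hr'
      apply (StalkRestrict.restrictStalkAddEquiv V.ι P y).injective
      rw [hgm, StalkRestrict.restrictStalkAddEquiv_smul, map_zero]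
      exact germ_smul_eq_zero i F r (hker r hr) _ _ _
    · intro y
      haveI := RefHull.LocFree.free_stalk hE (V.ι y)
      have h1 := (hwr (V.ι y) y.2).isWeaklyRegular_rTensor (M₂ := E.presheaf.stalk (V.ι y))
      have h2 := ((TensorProduct.lid _ _).isWeaklyRegular_congr _).1 h1
      refine (AddEquiv.isWeaklyRegular_congr (e := (StalkRestrict.restrictStalkAddEquiv V.ι E y))
        (as := (rs.map V.topIso.inv).map (ExtShRegSeq.gm y))
        (bs := rs.map (X.presheaf.germ V (V.ι y) y.2)) ?_).2 h2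
      rw [List.map_map, List.forall₂_map_left_iff, List.forall₂_map_right_iff, List.forall₂_same]
      intro r _ v
      rw [Function.comp_apply, hgm]
      exact StalkRestrict.restrictStalkAddEquiv_smul V.ι E y _ v
  obtain ⟨e⟩ := ExtShRestrict.nonempty_ext_restrict V P E q
  obtain ⟨y, rfl⟩ : ∃ y : (V : Scheme.{u}), V.ι y = x := ⟨⟨x, hxV⟩, rfl⟩
  haveI := Stalk.isZero_iff_stalk_subsingleton.1 (hz.of_iso e) y
  exact (StalkRestrict.restrictStalkAddEquiv V.ι _ y).toEquiv.symm.subsingleton

end Groth.Agent.H41.ExtPushRegImm
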