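import Groth.Agent.Lib.ExtShStalk.Hom
import Groth.Agent.Lib.RDer.Connecting
import Groth.Agent.Lib.Modules.StalkModule
import Groth.Agent.Lib.Modules.Stalk
import Groth.Agent.Lib.DerivedOX.Grothendieck
import Groth.Agent.Lib.DerivedOX.TensorSheaf
import Groth.Prelude.Def_Formal
import Mathlib.RingTheory.Regular.RegularSequence
import Mathlib.CategoryTheory.Abelian.RightDerived

/-!
# `ℰxt^q(M, N) = 0` below the length of an `N`-regular sequence killing `M`
-/

set_option autoImplicit false
set_option linter.style.haveILetI false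

universe u

open CategoryTheory Limits AlgebraicGeometry Opposite

namespace Groth.Agent.H41.ExtShRegSeq

open Groth.Agent.Lib Groth.Agent.Lib.Modules
open scoped TensorProduct Pointwise

variable {W : Scheme.{u}}

/-- The germ of a global function. -/
noncomputable abbrev gm (x : W) (r : Γ(W, ⊤)) : W.presheaf.stalk x :=
  W.presheaf.germ ⊤ x trivial r

theorem stalkMap_smul (M : W.Modules) (r : Γ(W, ⊤)) (x : W) (v : M.presheaf.stalk x) :
    StalkModule.stalkMapₗ (_root_.Formal.smulModΓ M r) x v = gm x r • v := by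
  obtain ⟨U, hx, t, rfl⟩ := TopCat.Presheaf.exists_germ_eq M.presheaf v
  rw [StalkModule.stalkMapₗ_germ]
  change M.presheaf.germ U x hx (W.presheaf.map (homOfLE (le_top (a := U))).op r • t) = _
  rw [StalkModule.germ_smul, TopCat.Presheaf.germ_res_apply]

theorem smul_natural (r : Γ(W, ⊤)) {M N : W.Modules} (φ : M ⟶ N) :
    _root_.Formal.smulModΓ M r ≫ φ = φ ≫ _root_.Formal.smulModΓ N r := by
  refine StalkModule.hom_ext_stalkMapₗ fun x => LinearMap.ext fun v => ?_
  rw [StalkModule.stalkMapₗ_comp, StalkModule.stalkMapₗ_comp, LinearMap.comp_apply,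
    LinearMap.comp_apply, stalkMap_smul, stalkMap_smul, map_smul]

theorem smul_tensor_eq_zero (M T : W.Modules) (r : Γ(W, ⊤))
    (h : ∀ (x : W) (m : M.presheaf.stalk x), gm x r • m = 0) :
    _root_.Formal.smulModΓ (CohB1.tensorMod M T) r = 0 := by
  refine StalkModule.hom_ext_stalkMapₗ fun x => LinearMap.ext fun v => ?_
  rw [stalkMap_smul, StalkModule.stalkMapₗ_zero, LinearMap.zero_apply]
  apply (DerivedOX.TensorSheaf.tensorStalk x M T).injective
  refine (map_smul (DerivedOX.TensorSheaf.tensorStalk x M T) _ _).trans (Eq.trans ?_ (map_zero _).symm)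
  induction DerivedOX.TensorSheaf.tensorStalk x M T v using TensorProduct.induction_on with
  | zero => exact smul_zero _
  | tmul a b => rw [TensorProduct.smul_tmul', h, TensorProduct.zero_tmul]
  | add a b ha hb => rw [smul_add, ha, hb, add_zero]

variable (M : W.Modules) [ModSite.HasSheafHom (O := W.sheaf) M]
  [HasInjectiveResolutions (ModSite.Mod W.sheaf)]

theorem R_map_smul (r : Γ(W, ⊤)) (h : ∀ (x : W) (m : M.presheaf.stalk x), gm x r • m = 0)
    (G : W.Modules) : (ExtShStalk.Hom.R M).map (_root_.Formal.smulModΓ G r) = 0 := by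
  haveI := (ExtShStalk.Hom.adj M).isLeftAdjoint
  have h2 : (ExtShStalk.Hom.adj M).counit.app G ≫ _root_.Formal.smulModΓ G r = 0 :=
    (smul_natural r _).symm.trans
      ((congrArg (fun t => t ≫ _) (smul_tensor_eq_zero M _ r h)).trans zero_comp)
  apply ((ExtShStalk.Hom.adj M).homEquiv _ _).symm.injective
  rw [(ExtShStalk.Hom.adj M).homEquiv_counit, (ExtShStalk.Hom.adj M).homEquiv_counit]
  erw [(ExtShStalk.Hom.adj M).counit_naturality, h2]
  rw [Functor.map_zero, zero_comp]

theorem extSh_map_smul (r : Γ(W, ⊤)) (h : ∀ (x : W) (m : M.presheaf.stalk x), gm x r • m = 0)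
    (G : W.Modules) (q : ℕ) :
    (ModSite.extSh (O := W.sheaf) M q).map (_root_.Formal.smulModΓ G r) = 0 := by
  haveI : HasInjectiveResolutions W.Modules := ‹HasInjectiveResolutions (ModSite.Mod W.sheaf)›
  haveI : (ExtShStalk.Hom.R M).Additive := (ExtShStalk.Hom.adj M).right_adjoint_additive
  let I := injectiveResolution G
  let φ : I.cocomplex ⟶ I.cocomplex :=
    { f := fun n => _root_.Formal.smulModΓ (I.cocomplex.X n) r
      comm' := fun i j _ => smul_natural r _ }
  have hφ : ((ExtShStalk.Hom.R M).mapHomologicalComplex (ComplexShape.up ℕ)).map φ = 0 := by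
    exact HomologicalComplex.hom_ext _ _ fun n => R_map_smul M r h _
  have := InjectiveResolution.isoRightDerivedObj_hom_naturality (_root_.Formal.smulModΓ G r) I I φ
    (smul_natural r (I.ι.f 0)).symm (ExtShStalk.Hom.R M) q
  rw [Functor.comp_map, hφ, Functor.map_zero, comp_zero] at this
  exact (cancel_mono (I.isoRightDerivedObj (ExtShStalk.Hom.R M) q).hom).1
    (this.trans zero_comp.symm)

/-- A sequence that is weakly regular on all stalks of `N` and kills `M` bounds the vanishing
of the sheaf Exts from below. -/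
theorem isZero_extSh : ∀ (rs : List Γ(W, ⊤)),
    (∀ r ∈ rs, ∀ (x : W) (m : M.presheaf.stalk x), gm x r • m = 0) → ∀ N : W.Modules,
    (∀ x : W, RingTheory.Sequence.IsWeaklyRegular (N.presheaf.stalk x) (rs.map (gm x))) →
    ∀ q < rs.length, IsZero ((ModSite.extSh (O := W.sheaf) M q).obj N) := by
  intro rs
  induction rs with
  | nil => intro _ _ _ q hq; exact absurd hq (Nat.not_lt_zero _)
  | cons r rs ih =>
    intro hk N hN q hq
    haveI : HasInjectiveResolutions W.Modules := ‹HasInjectiveResolutions (ModSite.Mod W.sheaf)›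
    haveI : EnoughInjectives W.Modules := inferInstance
    haveI : (ExtShStalk.Hom.R M).Additive := (ExtShStalk.Hom.adj M).right_adjoint_additive
    haveI : PreservesFiniteLimits (ExtShStalk.Hom.R M) :=
      have := (ExtShStalk.Hom.adj M).rightAdjoint_preservesLimits
      PreservesLimits.preservesFiniteLimits _
    let φ := _root_.Formal.smulModΓ N r
    have hr : ∀ x, IsSMulRegular (N.presheaf.stalk x) (gm x r) ∧
        RingTheory.Sequence.IsWeaklyRegular (QuotSMulTop (gm x r) (N.presheaf.stalk x)) (rs.map (gm x)) :=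
      fun x => (RingTheory.Sequence.isWeaklyRegular_cons_iff _ _ _).1 (hN x)
    haveI : Mono φ := (StalkModule.mono_iff_stalkMapₗ_injective φ).2 fun x a b hab =>
      (hr x).1 (((stalkMap_smul N r x a).symm.trans hab).trans (stalkMap_smul N r x b))
    let S := ShortComplex.mk φ (cokernel.π φ) (cokernel.condition φ)
    have hS : S.ShortExact :=
      { exact := ShortComplex.exact_of_g_is_cokernel _ (cokernelIsCokernel φ) }
    obtain ⟨L⟩ := RDer.Connecting.nonempty_derivedLES (ExtShStalk.Hom.R M)
    have hz : ∀ n, ((ExtShStalk.Hom.R M).rightDerived n).map φ = 0 := fun n =>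
      extSh_map_smul M r (hk r (by simp)) N n
    -- the sequence is regular on the cokernel
    have hC : ∀ x, RingTheory.Sequence.IsWeaklyRegular ((cokernel φ).presheaf.stalk x) (rs.map (gm x)) := by
      intro x
      have hsurj := (StalkModule.epi_iff_stalkMapₗ_surjective (cokernel.π φ)).1 inferInstance x
      have hex := (Stalk.exact_iff_stalk S).mp hS.exact x
      rw [ShortComplex.ab_exact_iff_function_exact] at hex
      let g := StalkModule.stalkMapₗ (cokernel.π φ) x
      have hker : LinearMap.ker g = gm x r • (⊤ : Submodule (W.presheaf.stalk x) (N.presheaf.stalk x)) := by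
        ext v
        rw [LinearMap.mem_ker, Submodule.mem_smul_pointwise_iff_exists]
        refine (hex v).trans ⟨?_, ?_⟩
        · rintro ⟨a, ha⟩
          exact ⟨a, trivial, (stalkMap_smul N r x a).symm.trans ha⟩
        · rintro ⟨a, -, ha⟩
          exact ⟨a, (stalkMap_smul N r x a).trans ha⟩
      exact (LinearEquiv.isWeaklyRegular_congr
        ((Submodule.quotEquivOfEq _ _ hker.symm).trans (g.quotKerEquivOfSurjective hsurj)) _).1 (hr x).2
    cases q with
    | zero =>
      have e := (ExtShStalk.Hom.R M).rightDerivedZeroIsoSelf.hom.naturality φ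
      haveI : Mono ((ExtShStalk.Hom.R M).map φ) := inferInstance
      have hm : Mono (((ExtShStalk.Hom.R M).rightDerived 0).map φ) := by
        haveI := mono_comp ((ExtShStalk.Hom.R M).rightDerivedZeroIsoSelf.hom.app N) ((ExtShStalk.Hom.R M).map φ)
        rw [← e] at this
        exact mono_of_mono _ ((ExtShStalk.Hom.R M).rightDerivedZeroIsoSelf.hom.app N)
      exact @IsZero.of_mono_eq_zero _ _ _ _ _ _ hm (hz 0)
    | succ q =>
      have hq' : q < rs.length := by simpa using hq
      have h3 : IsZero (((ExtShStalk.Hom.R M).rightDerived q).obj (cokernel φ)) :=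
        ih (fun s hs => hk s (List.mem_cons_of_mem _ hs)) (cokernel φ) hC q hq'
      have hm : Mono (((ExtShStalk.Hom.R M).rightDerived (q + 1)).map φ) :=
        (L.exact₁ S hS q (q + 1) rfl).mono_g (h3.eq_of_src _ _)
      exact @IsZero.of_mono_eq_zero _ _ _ _ _ _ hm (hz (q + 1))

end Groth.Agent.H41.ExtShRegSeq
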