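import Groth.Agent.H56.PCSingle.Basic
import Groth.Agent.H56.RelPC.SourceCover
import Groth.Agent.H56.RelPC.Bridge
import Groth.Agent.H56.RelPC.Closed
import Groth.Agent.H54.StalkPerf
import Groth.Agent.H54.PCLocal
import Groth.Agent.H54.FlatFP
import Groth.Agent.H14.FppfDesc.Scheme
import Groth.Agent.Lib.DerivedOX.LeftExists

/-!
# Pseudo-coherent and perfect morphisms are fppf local on the source
-/

set_option autoImplicit false
set_option linter.style.haveILetI false

universe u

open CategoryTheory Limits AlgebraicGeometry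

attribute [local instance] HasDerivedCategory.standard

namespace Groth.Agent.H41.FppfPerf

open Groth.Agent Groth.Agent.Lib

variable {X X' S : Scheme.{u}}

theorem pcBase_of_pcMor (f : X ⟶ S) (h : MoreMor.IsPseudoCoherentMor f) : H56.RelPC.PCBase f := by
  intro W V hW hV e
  letI := (f.appLE V W e).hom.toAlgebra
  obtain ⟨n, φ, hφ, hk⟩ := H54.RelPC.hom_iff.1 (h W V hW hV e)
  exact ⟨Fin n, inferInstance, φ.toRingHom, RingHom.ext fun r => φ.commutes r,
    (H56.RelPC.pcRing_iff _).2 ⟨hφ, hk⟩⟩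

theorem pcMor_of_pcBase (f : X ⟶ S) (h : H56.RelPC.PCBase f) : MoreMor.IsPseudoCoherentMor f := by
  intro U V hU hV e
  letI := (f.appLE V U e).hom.toAlgebra
  obtain ⟨κ, _, ψ, hC, hψ⟩ := h U V hU hV e
  obtain ⟨n, ⟨ε⟩⟩ := Finite.exists_equiv_fin κ
  let r : MvPolynomial (Fin n) Γ(S, V) ≃+* MvPolynomial κ Γ(S, V) :=
    (MvPolynomial.renameEquiv Γ(S, V) ε.symm).toRingEquiv
  have h' := hψ.comp_equiv r
  let φ : MvPolynomial (Fin n) Γ(S, V) →ₐ[Γ(S, V)] Γ(X, U) :=
    { toRingHom := ψ.comp (r : MvPolynomial (Fin n) Γ(S, V) →+* MvPolynomial κ Γ(S, V))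
      commutes' := fun a => by
        show ψ (r (MvPolynomial.C a)) = _
        rw [show r (MvPolynomial.C a) = MvPolynomial.C a from
          MvPolynomial.rename_C (ε.symm : Fin n → κ) a]
        exact RingHom.congr_fun hC a }
  obtain ⟨h1, h2⟩ := (H56.RelPC.pcRing_iff _).1 h'
  exact H54.RelPC.hom_iff.2 ⟨n, φ, h1, h2⟩

theorem locallyOfFiniteType_of_pcBase (f : X ⟶ S) (h : H56.RelPC.PCBase f) : LocallyOfFiniteType f :=
  ⟨fun {V} hV {U} hU e => by
    obtain ⟨κ, _, ψ, hC, hψ⟩ := h U V hU hV e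
    rw [← hC]
    exact (RingHom.FiniteType.of_surjective ψ hψ.surjective).comp
      (RingHom.finiteType_algebraMap.2 inferInstance)⟩

theorem isQCohD_unit (X : Scheme.{u}) : DCoh.IsQCohD (DCoh.inD X (Coh.structureModule X)) := fun i => by
  haveI : (Coh.structureModule X).IsQuasicoherent := TensorMod.QCohInv.isQCoh_structureModule X
  by_cases hi : i = 0
  · subst hi
    exact @CohBasics.Closure.isQCoh_of_iso _ _ _ (H56.PCSingle.HDInD (Coh.structureModule X)).symm ‹_›
  · exact @CohBasics.Closure.isQCoh_of_iso _ _ _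
      (IsZero.iso (isZero_cokernel_of_epi (𝟙 (Coh.structureModule X)))
        (H56.PCSingle.isZero_HD_inD (Coh.structureModule X) i hi))
      (QCoh.Closure.isQCoh_cokernel _)

theorem isPseudoCoherentD_unit (X : Scheme.{u}) (m : ℤ) :
    DCoh.IsPseudoCoherentD m (DCoh.inD X (Coh.structureModule X)) :=
  (Perfect.PseudoCoh.iff_forall m _).2 fun x => (H56.PCSingle.pcAt_inD_freeMod 1 m x).of_iso
    ((DerivedCategory.singleFunctor X.Modules 0).mapIso (TensorMod.LocFree.freeModOneIso X))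

theorem pcMor_of_fppf_source (f : X ⟶ S) (a : X' ⟶ X) [Flat a] [Surjective a]
    [LocallyOfFinitePresentation a] (h : MoreMor.IsPseudoCoherentMor (a ≫ f)) :
    MoreMor.IsPseudoCoherentMor f := by
  have hb := pcBase_of_pcMor _ h
  haveI := locallyOfFiniteType_of_pcBase _ hb
  haveI : LocallyOfFiniteType f := H14.FppfDesc.Scheme.locallyOfFiniteType_of_comp a f ‹_›
  let O := DCoh.inD X (Coh.structureModule X)
  let hi : O ≅ DCoh.toD X (DerSch.unitCx X) :=
    (DerivedCategory.singleFunctorIsoCompQ X.Modules 0).app (Coh.structureModule X)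
  have hrel : ∀ m, DerSch.IsPseudoCoherentRel f m O := fun m => by
    refine H56.RelPC.isPseudoCoherentRel_of_source_cover (ι := PUnit) (fun _ => X') (fun _ => a)
      (fun x => ⟨PUnit.unit, a.surjective x⟩) (isQCohD_unit X) fun _ => ?_
    refine (H56.RelPC.isPseudoCoherentD_iff_rel hb m _).1 ?_
    exact (Perfect.PseudoCoh.iff_forall m _).2 fun x => H56.RelPC.pcAt_FPD a
      ((Perfect.PseudoCoh.iff_forall m _).1 (isPseudoCoherentD_unit X m)) x
  exact pcMor_of_pcBase f (H56.RelPC.pcBase_of_isNPseudoCoherent fun n =>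
    H56.RelPC.isPseudoCoherentRel_of_iso hi (hrel n))

theorem perfectMor_of_fppf_source (f : X ⟶ S) (a : X' ⟶ X) [Flat a] [Surjective a]
    [LocallyOfFinitePresentation a] (h : MoreMor.IsPerfectMor (a ≫ f)) :
    MoreMor.IsPerfectMor f := by
  have hpc : MoreMor.IsPseudoCoherentMor (a ≫ f) := fun U V hU hV e => (h U V hU hV e).1
  refine (H54.StalkPerf.mor_iff_stalks f (pcMor_of_fppf_source f a hpc)).2 fun x => ?_
  obtain ⟨x', rfl⟩ := a.surjective x
  obtain ⟨d, hd⟩ := (H54.StalkPerf.mor_iff_stalks (a ≫ f) hpc).1 h x'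
  have key : ∀ {R A B : Type u} [CommRing R] [CommRing A] [CommRing B] (φ : R →+* A) (ψ : A →+* B)
      (χ : R →+* B), χ = ψ.comp φ → (letI := ψ.toAlgebra; Module.FaithfullyFlat A B) →
      (letI := χ.toAlgebra; DRing.HasTorDimLE R d B) → (letI := φ.toAlgebra; DRing.HasTorDimLE R d A) := by
    intro R A B _ _ _ φ ψ χ hχ hff hB
    letI := φ.toAlgebra
    letI := ψ.toAlgebra
    letI := χ.toAlgebra
    haveI : IsScalarTower R A B := IsScalarTower.of_algebraMap_eq' hχ
    haveI : Module.FaithfullyFlat A B := hff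
    rw [H54.TorDimHom.hasTorDimLE_iff_exact] at hB ⊢
    intro N P p hp
    rw [← LinearMap.baseChange_eq_ltensor, ← LinearMap.baseChange_eq_ltensor]
    exact (Module.FaithfullyFlat.lTensor_exact_iff_exact A B _ _).1
      ((H54.TorDimHom.exact_lTensor_iff (B := A) B _ _).2 (hB N P p hp))
  refine ⟨d, key (f.stalkMap (a x')).hom (a.stalkMap x').hom ((a ≫ f).stalkMap x').hom ?_ ?_ hd⟩
  · exact (congrArg CommRingCat.Hom.hom (Scheme.Hom.stalkMap_comp a f x')).trans rfl
  · letI := (a.stalkMap x').hom.toAlgebra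
    exact @Module.FaithfullyFlat.of_flat_of_isLocalHom _ _ _ _ _ _ _ (Flat.stalkMap a x') (a.toLRSHom.prop x')

end Groth.Agent.H41.FppfPerf
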