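import Groth.Agent.Lib.Synt92.KoszulLocal
import Groth.Agent.Lib.Koszul.Stable.KLim
import Groth.Agent.Lib.Koszul.Tensor
import Groth.Prelude.Def_PerfAux

/-!
# The Koszul colimit of a flat module along a Koszul-regular sequence
-/

set_option autoImplicit false

universe u

open CategoryTheory Limits CochainComplex MonoidalCategory

namespace Groth.Agent.H41.KoszulLimVanish

open Groth.Agent.Lib.Koszul Groth.Agent.Lib.Koszul.Basic Groth.Agent.Lib.Koszul.SmulCone

variable {A : Type u} [CommRing A]

theorem koszulOn_append (C : CochainComplex (ModuleCat.{u} A) ℤ) :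
    ∀ l l' : List A, koszulOn C (l ++ l') = koszulOn (koszulOn C l') l
  | [], _ => rfl
  | f :: l, l' => congrArg (smulCone f) (koszulOn_append C l l')

/-- Vanishing of the homology of the cone is inherited by powers. -/
theorem isZero_smulCone_pow (f : A) (C : CochainComplex (ModuleCat.{u} A) ℤ) (i : ℤ)
    (h : IsZero ((smulCone f C).homology i)) (n : ℕ) : IsZero ((smulCone (f ^ n) C).homology i) := by
  rw [isZero_homology_iff] at h ⊢
  induction n with
  | zero => exact ⟨fun b => ⟨b, by simp⟩, fun b hb => by simpa using hb⟩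
  | succ n ih =>
    refine ⟨fun b => ?_, fun b hb => ?_⟩
    · obtain ⟨b', rfl⟩ := h.1 b
      obtain ⟨b'', rfl⟩ := ih.1 b'
      exact ⟨b'', by simp only [pow_succ', mul_smul]⟩
    · rw [pow_succ, mul_smul] at hb
      exact h.2 b (ih.2 _ hb)

/-- Vanishing of Koszul homology is inherited by powers of the sequence. -/
theorem isZero_koszulOn_pow (n : ℕ) (i : ℤ) :
    ∀ (l : List A) (C : CochainComplex (ModuleCat.{u} A) ℤ), IsZero ((koszulOn C l).homology i) →
      IsZero ((koszulOn C (l.map (· ^ n))).homology i) := by
  intro l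
  induction l with
  | nil => exact fun C h => h
  | cons f l ih =>
    intro C h
    obtain ⟨e⟩ := Tensor.nonempty_iso_of_perm C (List.perm_append_comm (l₁ := [f]) (l₂ := l))
    have h1 : IsZero ((koszulOn (smulCone f C) l).homology i) := by
      have := h.of_iso ((HomologicalComplex.homologyFunctor _ _ i).mapIso e).symm
      rw [koszulOn_append] at this
      exact this
    have h2 := ih (smulCone f C) h1
    obtain ⟨e'⟩ := Tensor.nonempty_iso_of_perm C
      (List.perm_append_comm (l₁ := [f]) (l₂ := l.map (· ^ n)))
    have h3 : IsZero ((smulCone f (koszulOn C (l.map (· ^ n)))).homology i) := by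
      have h2' : IsZero ((koszulOn C (l.map (· ^ n) ++ [f])).homology i) := by
        rw [koszulOn_append]; exact h2
      exact h2'.of_iso ((HomologicalComplex.homologyFunctor _ _ i).mapIso e')
    exact isZero_smulCone_pow f _ i h3 n

/-- The Koszul colimit of a flat module along a Koszul-regular sequence lives in the top degree. -/
theorem subsingleton_koszulHLim (fs : List A) (hfs : LCI.IsKoszulRegularSeq A fs)
    (M : ModuleCat.{u} A) [Module.Flat A M] (p : ℕ) (hp : p < fs.length) :
    Subsingleton (CohIII.koszulHLim fs M p) := by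
  refine subsingleton_of_forall_eq 0 fun z => ?_
  obtain ⟨n, x, rfl⟩ := Groth.Agent.Lib.Koszul.Stable.KLim.exists_of fs z
  have hi : (p : ℤ) - fs.length ≠ 0 := by omega
  have h0 : IsZero ((koszulOn (sgl (ModuleCat.of A A)) fs).homology ((p : ℤ) - fs.length)) :=
    (hfs _ hi).of_iso (koszulHomologyIso fs _).symm
  have h1 : IsZero ((Koszul.koszul A (fs.map (· ^ n))).homology ((p : ℤ) - fs.length)) :=
    (isZero_koszulOn_pow n _ fs _ h0).of_iso (koszulHomologyIso _ _)
  have h2 : IsZero ((koszulOn (sgl M) (fs.map (· ^ n))).homology ((p : ℤ) - fs.length)) :=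
    ((tensorRight M).map_isZero h1).of_iso
      ((((Koszul.koszul A (fs.map (· ^ n))).sc _).mapHomologyIso (tensorRight M)).symm ≪≫
        Tensor.tensorHomologyIso _ M _).symm
  have h3 : Subsingleton (CohIII.koszulHPow fs M p n) := by
    rw [← ModuleCat.isZero_iff_subsingleton]
    exact h2.of_iso ((HomologicalComplex.homologyFunctor _ _ _).mapIso (eqToIso (koszulCx_eq M _)))
  rw [h3.elim x 0, map_zero]

end Groth.Agent.H41.KoszulLimVanish
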