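import Groth.Agent.H54.KoszulPerf
import Groth.Agent.H54.StalkPerf
import Groth.Agent.Lib.DR.TorAmp
import Groth.Prelude.Def_RegImm

/-!
# The tor dimension of a Koszul-regular immersion is at most its codimension
-/

set_option autoImplicit false
set_option linter.style.haveILetI false

universe u

open CategoryTheory CategoryTheory.Limits AlgebraicGeometry
open Groth.Agent.Lib Groth.Agent.Lib.DR Groth.Agent.Lib.DR.Basic Groth.Agent.Lib.DR.FiniteComplex
open Groth.Agent.Lib.DR.PseudoCoherent Groth.Agent.Lib.DR.TorAmp Groth.Agent.Lib.DR.BaseChange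

attribute [local instance] HasDerivedCategory.standard

namespace Groth.Agent.H41.KoszulTorDim

/-- The Koszul complex of `d` elements lives in degrees `[-d, 0]`. -/
theorem bdd_koszul (A : Type u) [CommRing A] :
    ∀ l : List A, Bdd (fproj A) (-(l.length : ℤ)) 0 (DerivedCategory.Q.obj (Koszul.koszul A l))
  | [] => (bdd_single good_fproj (M := ModuleCat.of A A)
      ⟨inferInstanceAs (Module.Finite A A), inferInstanceAs (Module.Projective A A)⟩ 0).of_iso
      ((DerivedCategory.singleFunctorIsoCompQ (ModuleCat.{u} A) 0).app (ModuleCat.of A A))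
  | f :: l => Bdd.cone good_fproj projective_of_fproj _
      (DerivedCategory.mappingCone_triangle_distinguished (f • 𝟙 (Koszul.koszul A l)))
      (bdd_koszul A l) (bdd_koszul A l) (by simp) (by simp) (by lia) le_rfl

open Groth.Agent.Lib.Koszul.Basic in
theorem bdd_quot {A : Type u} [CommRing A] (l : List A)
    (h : ∀ i : ℤ, i ≠ 0 → IsZero ((Koszul.koszul A l).homology i)) :
    Bdd (fproj A) (-(l.length : ℤ)) 0 (Dual.inD A (A ⧸ Ideal.ofList l)) := by
  let K := DerivedCategory.Q.obj (Koszul.koszul A l)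
  have hK : ∀ i : ℤ, i ≠ 0 → IsZero ((DerivedCategory.homologyFunctor (ModuleCat.{u} A) i).obj K) :=
    fun i hi => (h i hi).of_iso ((DerivedCategory.homologyFunctorFactors _ i).app _)
  have : K.IsGE 0 := (DerivedCategory.isGE_iff K 0).2 fun i hi => hK i hi.ne
  have : K.IsLE 0 := (DerivedCategory.isLE_iff K 0).2 fun i hi => hK i hi.ne'
  obtain ⟨M, ⟨e⟩⟩ := DerivedCategory.exists_iso_singleFunctor_obj_of_isGE_of_isLE K 0
  obtain ⟨q⟩ := nonempty_homology_zero (ModuleCat.of A A) l
  have hM : M ≅ ModuleCat.of A (A ⧸ Ideal.ofList l) :=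
    ((DerivedCategory.singleFunctorCompHomologyFunctorIso (ModuleCat.{u} A) 0).app M).symm ≪≫ (DerivedCategory.homologyFunctor _ 0).mapIso e.symm ≪≫
      (DerivedCategory.homologyFunctorFactors _ 0).app _ ≪≫ koszulHomologyIso l 0 ≪≫
      (q ≪≫ₗ Submodule.quotEquivOfEq _ _ (by simp)).toModuleIso
  exact ((bdd_koszul A l).of_iso e).of_iso ((DerivedCategory.singleFunctor _ 0).mapIso hM)

theorem hasTorDimLE_of_surjective {A B : Type u} [CommRing A] [CommRing B] [Algebra A B]
    (hφ : Function.Surjective (algebraMap A B)) (l : List A)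
    (h : ∀ i : ℤ, i ≠ 0 → IsZero ((Koszul.koszul A l).homology i))
    (hker : RingHom.ker (algebraMap A B) = Ideal.ofList l) : DRing.HasTorDimLE A l.length B := by
  refine (TorDim.hasTorDimLE_iff B _).2 (((bdd_quot l h).of_le flat_of_fproj).of_iso
    ((DerivedCategory.singleFunctor _ 0).mapIso (LinearEquiv.toModuleIso ?_)))
  refine Submodule.quotEquivOfEq _ (LinearMap.ker (Algebra.linearMap A B)) ?_ ≪≫ₗ
    LinearMap.quotKerEquivOfSurjective _ hφ
  rw [← hker]
  rfl

/-- The stalk maps of a Koszul-regular immersion of codimension `d` have tor dimension at most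
`d`. -/
theorem stalk_hasTorDimLE {Z X : Scheme.{u}} (i : Z ⟶ X) (d : ℕ)
    (hi : RegImm.IsRegularImmersionOfCodim RegImm.Kind.koszul d i) (z : Z) :
    letI := (i.stalkMap z).hom.toAlgebra
    DRing.HasTorDimLE (X.presheaf.stalk (i z)) d (Z.presheaf.stalk z) := by
  obtain ⟨W, hzW, hci, rs, rfl, hrs, hker⟩ := hi.2 z
  have : IsAffine W.1.toScheme := W.2
  have hU : IsAffineOpen (i ⁻¹ᵁ W.1) := isAffine_of_isAffineHom (i ∣_ W.1)
  let U : Z.Opens := i ⁻¹ᵁ W.1
  have hzU : z ∈ U := hzW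
  let φ : Γ(X, W.1) →+* Γ(Z, U) := (i.app W.1).hom
  have hsurj : Function.Surjective φ := by
    have h1 := (i ∣_ W.1).app_surjective ⊤ (isAffineOpen_top _)
    rw [morphismRestrict_app] at h1
    have e : W.1.ι ''ᵁ ⊤ = W.1 := W.1.ι_image_top
    have h2 : Function.Surjective (i.app (W.1.ι ''ᵁ ⊤)) := fun b => by
      obtain ⟨a, ha⟩ := h1 (Z.presheaf.map (eqToHom _).op b)
      exact ⟨a, (ConcreteCategory.bijective_of_isIso (Z.presheaf.map (eqToHom _).op)).1 ha⟩
    rwa [e] at h2
  letI : Algebra Γ(X, W.1) Γ(Z, U) := φ.toAlgebra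
  have hring : DRing.HasTorDimLE Γ(X, W.1) rs.length Γ(Z, U) :=
    hasTorDimLE_of_surjective hsurj rs hrs hker
  letI := (i.stalkMap z).hom.toAlgebra
  letI := X.presheaf.algebra_section_stalk (⟨i z, hzW⟩ : W.1)
  letI := Z.presheaf.algebra_section_stalk (⟨z, hzU⟩ : U)
  letI : Algebra Γ(X, W.1) (Z.presheaf.stalk z) :=
    ((algebraMap Γ(Z, U) (Z.presheaf.stalk z)).comp φ).toAlgebra
  have : IsScalarTower Γ(X, W.1) Γ(Z, U) (Z.presheaf.stalk z) :=
    IsScalarTower.of_algebraMap_eq fun _ => rfl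
  have : IsScalarTower Γ(X, W.1) (X.presheaf.stalk (i z)) (Z.presheaf.stalk z) :=
    IsScalarTower.of_algebraMap_eq fun r => by
      show (Z.presheaf.germ U z hzU).hom (i.app W.1 r) =
        i.stalkMap z (X.presheaf.germ W.1 (i z) hzW r)
      rw [Scheme.Hom.germ_stalkMap_apply]
  have := hU.isLocalization_stalk ⟨z, hzU⟩
  have := W.2.isLocalization_stalk ⟨i z, hzW⟩
  have : Module.Flat Γ(Z, U) (Z.presheaf.stalk z) :=
    IsLocalization.flat _ (hU.primeIdealOf ⟨z, hzU⟩).asIdeal.primeCompl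
  exact H54.TorDimHom.hasTorDimLE_localization (W.2.primeIdealOf ⟨i z, hzW⟩).asIdeal.primeCompl _
    (H54.TorDimHom.hasTorDimLE_of_flat hring (Z.presheaf.stalk z))

end Groth.Agent.H41.KoszulTorDim
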