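import Groth.Agent.H30.DerivedNat
import Groth.Agent.H30.DerivedSES
import Groth.Agent.Lib.SiteCmp29.GammaZ
import Groth.Agent.Lib.CohDelta.QCohR
import Groth.Agent.Lib.ZarCoh.Affine
import Groth.Agent.Lib.Cech.MV
import Groth.Agent.Lib.PushClosed.Basic
import Groth.Agent.Lib.Modules.Stalk
import Groth.Prelude.Def_PerfAux
import Mathlib.Data.List.GetD

/-!
# Local cohomology sheaves vanish above the number of equations
-/

set_option autoImplicit false
set_option linter.style.haveILetI false

universe u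

open CategoryTheory Limits AlgebraicGeometry TopologicalSpace Opposite

namespace Groth.Agent.H41.LocCohVanish

open Groth.Agent Groth.Agent.Lib Groth.Agent.Lib.CohDelta Groth.Agent.Lib.SiteCmp29

variable {X : Scheme.{u}}

/-- Cohomology on a union of `k + 1` basic opens of an affine vanishes in degree `k + 1`. -/
theorem subsingleton_HU_basicOpens (U W : X.Opens) (hW : IsAffineOpen W) (k : ℕ)
    (g : Fin (k + 1) → Γ(X, W)) (hcov : U ⊓ W = ⨆ a, X.basicOpen (g a))
    (M : (U : Scheme.{u}).Modules) [M.IsQuasicoherent] :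
    Subsingleton (CohTop.HU (Coh.toAb M) (k + 1) (U.ι ⁻¹ᵁ W)) := by
  classical
  have hle : ∀ a, X.basicOpen (g a) ≤ U := fun a =>
    ((le_iSup (fun a => X.basicOpen (g a)) a).trans hcov.ge).trans inf_le_left
  have h := Cech.MV.subsingleton_HU_iSup_fin (F := Coh.toAb M) k (fun a => U.ι ⁻¹ᵁ X.basicOpen (g a))
    (fun q i n => by
      have hb : ∀ (s : Finset (Fin (q + 1))) (hs : s.Nonempty),
          X.basicOpen (∏ a ∈ s, g (i a)) = s.inf' hs fun a => X.basicOpen (g (i a)) := by
        intro s hs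
        induction hs using Finset.Nonempty.cons_induction with
        | singleton a => simp
        | cons a s ha hs ih =>
          rw [Finset.prod_cons, Scheme.basicOpen_mul, ih, Finset.inf'_cons]
      have he : (⨅ a, U.ι ⁻¹ᵁ X.basicOpen (g (i a))) = U.ι ⁻¹ᵁ X.basicOpen (∏ a, g (i a)) := by
        rw [hb Finset.univ Finset.univ_nonempty]
        refine le_antisymm ?_ (le_iInf fun a => U.ι.preimage_mono (Finset.inf'_le _ (Finset.mem_univ a)))
        intro z hz
        have hz' : ∀ a, U.ι z ∈ (X.basicOpen (g (i a)) : Set X) := fun a =>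
          iInf_le (fun a => U.ι ⁻¹ᵁ X.basicOpen (g (i a))) a hz
        have key : ∀ (s : Finset (Fin (q + 1))) (hs : s.Nonempty),
            U.ι z ∈ ((s.inf' hs fun a => X.basicOpen (g (i a)) : X.Opens) : Set X) := by
          intro s hs
          induction hs using Finset.Nonempty.cons_induction with
          | singleton a => simpa using hz' a
          | cons a s ha hs ih =>
            rw [Finset.inf'_cons hs]
            exact ⟨hz' a, ih⟩
        exact key _ Finset.univ_nonempty
      rw [he]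
      refine ZarCoh.Affine.HU_subsingleton M ((hW.basicOpen _).preimage_of_isOpenImmersion U.ι ?_) n
      rw [Scheme.Opens.opensRange_ι, hb Finset.univ Finset.univ_nonempty]
      exact (Finset.inf'_le _ (Finset.mem_univ 0)).trans (hle _))
    (k + 1) le_rfl
  have he : U.ι ⁻¹ᵁ W = ⨆ a, U.ι ⁻¹ᵁ X.basicOpen (g a) := by
    refine TopologicalSpace.Opens.ext (Set.ext fun z => ⟨fun hz => ?_, fun hz => ?_⟩)
    · have h' : U.ι z ∈ U ⊓ W := ⟨z.2, hz⟩
      rw [hcov] at h'
      obtain ⟨a, ha⟩ := TopologicalSpace.Opens.mem_iSup.1 h'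
      exact TopologicalSpace.Opens.mem_iSup.2 ⟨a, ha⟩
    · obtain ⟨a, ha⟩ := TopologicalSpace.Opens.mem_iSup.1 hz
      exact X.basicOpen_le (g a) ha
  rw [he]
  exact h

/-- Stalks of higher direct images from `U` vanish where `U` is locally cut out by `c` functions. -/
theorem subsingleton_stalk_tFun (U : X.Opens) [HasInjectiveResolutions X.Modules]
    (c : ℕ) (x : X) (V : X.Opens) (fs : Finset Γ(X, V)) (hxV : x ∈ V) (hc : fs.card ≤ c)
    (hUV : ∀ z ∈ V, z ∈ U ↔ ∃ f ∈ fs, z ∈ X.basicOpen f)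
    (F : X.Modules) [F.IsQuasicoherent] (p : ℕ) (hp : c ≤ p) :
    Subsingleton ((((GammaZ.tFun U.ι).rightDerived p).obj F).presheaf.stalk x) := by
  classical
  let G := (Scheme.Modules.restrictFunctor U.ι).obj F
  haveI : G.IsQuasicoherent := inferInstanceAs ((F.restrict U.ι).IsQuasicoherent)
  have red : Subsingleton ((((Scheme.Modules.pushforward U.ι).rightDerived p).obj G).presheaf.stalk x) →
      Subsingleton ((((GammaZ.tFun U.ι).rightDerived p).obj F).presheaf.stalk x) := fun h =>
    ((Modules.Stalk.stalkFunctor X x).mapIso ((H30.DerivedNat.precompNatIso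
      (Scheme.Modules.restrictFunctor U.ι) (Scheme.Modules.pushforward U.ι) p).app F)).addCommGroupIsoToAddEquiv.toEquiv.subsingleton_congr.2 h
  apply red
  cases p with
  | zero =>
    have h0 : Subsingleton (((Scheme.Modules.pushforward U.ι).obj G).presheaf.stalk x) := by
      refine subsingleton_of_forall_eq 0 fun t => ?_
      obtain ⟨W, hxW, s, rfl⟩ := TopCat.Presheaf.exists_germ_eq ((Scheme.Modules.pushforward U.ι).obj G).presheaf t
      have he : U.ι ⁻¹ᵁ (W ⊓ V) = ⊥ := by
        refine le_bot_iff.1 fun z hz => ?_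
        obtain ⟨f, hf, -⟩ := (hUV (U.ι z) hz.2).1 z.2
        rw [Finset.card_eq_zero.1 (Nat.le_zero.1 (hc.trans hp))] at hf
        exact (Finset.notMem_empty _ hf).elim
      rw [← TopCat.Presheaf.germ_res_apply _ (homOfLE (inf_le_left : W ⊓ V ≤ W)) x ⟨hxW, hxV⟩]
      haveI : Subsingleton Γ(G, U.ι ⁻¹ᵁ (W ⊓ V)) := he ▸ PushClosed.Basic.subsingleton_sections_bot G
      rw [@Subsingleton.elim Γ(G, U.ι ⁻¹ᵁ (W ⊓ V)) _
        (((Scheme.Modules.pushforward U.ι).obj G).presheaf.map (homOfLE (inf_le_left : W ⊓ V ≤ W)).op s) 0]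
      exact map_zero _
    exact ((Modules.Stalk.stalkFunctor X x).mapIso
      ((Scheme.Modules.pushforward U.ι).rightDerivedZeroIsoSelf.app G)).addCommGroupIsoToAddEquiv.toEquiv.subsingleton_congr.2 h0
  | succ k =>
    let I := injectiveResolution G
    obtain ⟨i⟩ := Syzygy.nonempty_rightDerived_iso I U.ι k
    haveI : (Syzygy.Z I 0).IsQuasicoherent :=
      ObjectProperty.prop_of_iso (SheafOfModules.isQuasicoherent (R := (U : Scheme.{u}).ringCatSheaf))
        (Syzygy.augIso I) ‹_›
    have h0 : Subsingleton ((Syzygy.R I U.ι k).presheaf.stalk x) := by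
      refine subsingleton_of_forall_eq 0 fun t => ?_
      obtain ⟨W₀, hxW₀, s, rfl⟩ := TopCat.Presheaf.exists_germ_eq (Syzygy.R I U.ι k).presheaf t
      obtain ⟨W₁, h₁, hxW₁, z, hz⟩ := QCohR.e_surj U.ι I k W₀ s x hxW₀
      obtain ⟨W, hW, hxW, hle⟩ := exists_isAffineOpen_mem_and_subset (U := W₁ ⊓ V) (x := x) ⟨hxW₁, hxV⟩
      have hW1 : W ≤ W₁ := fun y hy => (hle hy).1
      have hWV : W ≤ V := fun y hy => (hle hy).2
      let L := fs.toList
      let g : Fin (k + 1) → Γ(X, W) := fun a => X.presheaf.map (homOfLE hWV).op (L.getD a 0)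
      have hcov : U ⊓ W = ⨆ a, X.basicOpen (g a) := by
        refine TopologicalSpace.Opens.ext (Set.ext fun y => ⟨fun hy => ?_, fun hy => ?_⟩)
        · obtain ⟨hyU, hyW⟩ := hy
          obtain ⟨f, hf, hyf⟩ := (hUV y (hWV hyW)).1 hyU
          obtain ⟨n, hn, rfl⟩ := List.getElem_of_mem (Finset.mem_toList.2 hf)
          have hn' : n < k + 1 := by
            have := Finset.length_toList fs
            change n < L.length at hn
            change L.length = fs.card at this
            omega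
          refine TopologicalSpace.Opens.mem_iSup.2 ⟨⟨n, hn'⟩, ?_⟩
          simp only [g, Scheme.basicOpen_res]
          refine ⟨hyW, ?_⟩
          rw [List.getD_eq_getElem L 0 hn]
          exact hyf
        · obtain ⟨a, ha'⟩ := TopologicalSpace.Opens.mem_iSup.1 hy
          simp only [g, Scheme.basicOpen_res] at ha'
          obtain ⟨hyW, hyf⟩ := ha'
          by_cases ha : (a : ℕ) < L.length
          · rw [List.getD_eq_getElem L 0 ha] at hyf
            exact ⟨(hUV y (hWV hyW)).2 ⟨_, Finset.mem_toList.1 (List.getElem_mem ha), hyf⟩, hyW⟩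
          · rw [List.getD_eq_default _ _ (not_lt.1 ha), Scheme.basicOpen_zero] at hyf
            exact hyf.elim
      haveI := subsingleton_HU_basicOpens U W hW k g hcov (Syzygy.Z I 0)
      rw [← TopCat.Presheaf.germ_res_apply _ (homOfLE (hW1.trans h₁)) x hxW]
      have hs : (Syzygy.R I U.ι k).presheaf.map (homOfLE (hW1.trans h₁)).op s = 0 := by
        have h3 := QCohR.e_nat U.ι I k hW1 z
        have h4 : ZarCoh.Basic.rs (Coh.toAb (Syzygy.Z I 0)) (k + 1) (U.ι.preimage_mono hW1) z = 0 :=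
          @Subsingleton.elim (CohTop.HU (Coh.toAb (Syzygy.Z I 0)) (k + 1) (U.ι ⁻¹ᵁ W)) _ _ _
        rw [hz] at h3
        exact ((ConcreteCategory.congr_hom ((Syzygy.R I U.ι k).presheaf.map_comp
          (homOfLE h₁).op (homOfLE hW1).op) s).trans (h3.symm.trans ((congrArg _ h4).trans (map_zero _))))
      rw [hs]
      exact map_zero _
    exact ((Modules.Stalk.stalkFunctor X x).mapIso i).addCommGroupIsoToAddEquiv.toEquiv.subsingleton_congr.2 h0

/-- Local cohomology sheaves vanish above the number of local equations. -/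
theorem isZero_rightDerived_gammaZ (U : X.Opens) [HasInjectiveResolutions X.Modules] (c : ℕ)
    (hT : ∀ x : X, ∃ (V : X.Opens) (fs : Finset Γ(X, V)), x ∈ V ∧ fs.card ≤ c ∧
      X.zeroLocus (U := V) (↑fs : Set Γ(X, V)) ∩ (V : Set ↥X) = (U : Set ↥X)ᶜ ∩ (V : Set ↥X))
    (F : X.Modules) [F.IsQuasicoherent] (i : ℕ) (hi : c < i) :
    IsZero (((DCoh.gammaZ U.ι).rightDerived i).obj F) := by
  obtain ⟨p, rfl⟩ : ∃ p, i = p + 1 := ⟨i - 1, by omega⟩
  refine Modules.Stalk.isZero_iff_stalk_subsingleton.2 fun x => ?_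
  obtain ⟨V, fs, hxV, hc, hz⟩ := hT x
  have hUV : ∀ z ∈ V, z ∈ U ↔ ∃ f ∈ fs, z ∈ X.basicOpen f := fun z hzV => by
    have h := Set.ext_iff.1 hz z
    simp only [Set.mem_inter_iff, Scheme.mem_zeroLocus_iff, Set.mem_compl_iff, SetLike.mem_coe, hzV, and_true] at h
    constructor
    · intro hzU
      by_contra hne
      exact (h.1 fun f hf hfz => hne ⟨f, hf, hfz⟩) hzU
    · rintro ⟨f, hf, hfz⟩
      by_contra hzU
      exact h.2 hzU f hf hfz
  let P := injectiveResolution F
  have hS := H30.DerivedSES.cx_shortExact (GammaZ.ι U.ι) (GammaZ.η U.ι)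
    (fun Z => GammaZ.ι_η U.ι Z) (GammaZ.seq_shortExact U.ι) P
  have h2 : IsZero (((𝟭 X.Modules).mapHomologicalComplex (ComplexShape.up ℕ)).obj P.cocomplex |>.homology (p + 1)) :=
    (P.cocomplex_exactAt_succ p).isZero_homology
  haveI : Epi (hS.δ p (p + 1) rfl) :=
    (hS.homology_exact₁ p (p + 1) rfl).epi_f (h2.eq_of_tgt _ _)
  let d := (P.isoRightDerivedObj (GammaZ.tFun U.ι) p).hom ≫ hS.δ p (p + 1) rfl ≫
    (P.isoRightDerivedObj (DCoh.gammaZ U.ι) (p + 1)).inv
  have hd : Epi d := (MorphismProperty.epimorphisms X.Modules).comp_mem _ _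
    (inferInstanceAs (Epi (P.isoRightDerivedObj (GammaZ.tFun U.ι) p).hom))
    ((MorphismProperty.epimorphisms X.Modules).comp_mem _ _ ‹Epi (hS.δ p (p + 1) rfl)›
      (@IsIso.epi_of_iso _ _ _ _ _ (P.isoRightDerivedObj (DCoh.gammaZ U.ι) (p + 1)).isIso_inv))
  have hs := (Modules.Stalk.epi_iff_stalk_surjective d).1 hd x
  haveI : Subsingleton ((Modules.Stalk.stalkFunctor X x).obj (((GammaZ.tFun U.ι).rightDerived p).obj F)) :=
    subsingleton_stalk_tFun U c x V fs hxV hc hUV F p (by omega)
  exact Function.Surjective.subsingleton hs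

end Groth.Agent.H41.LocCohVanish
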