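import Groth.Agent.H41.KoszulLimVanish
import Groth.Agent.H41.LocCohVanish
import Groth.Agent.Lib.Koszul.Stable.SchemeHH
import Groth.Agent.Lib.Synt92.CubeBase
import Groth.Agent.Lib.Modules.AffineSections
import Groth.Agent.Lib.Perfect.FlatPerfect
import Groth.Agent.Lib.ZarCoh.Morph
import Groth.Agent.Lib.ExtShDivisor
import Groth.Prelude.Def_PerfAux

/-!
# Local cohomology of a flat quasi-coherent module below the length of a Koszul-regular sequence
-/

set_option autoImplicit false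
set_option linter.style.haveILetI false

universe u

open CategoryTheory Limits AlgebraicGeometry TopologicalSpace Opposite

namespace Groth.Agent.H41.LocCohFlat

open Groth.Agent Groth.Agent.Lib Groth.Agent.Lib.CohDelta Groth.Agent.Lib.SiteCmp29

variable {X : Scheme.{u}}

/-- The image of a Koszul-regular sequence under a flat map is Koszul regular. -/
theorem koszulRegular_map {A B : Type u} [CommRing A] [CommRing B] (φ : A →+* B) (hφ : φ.Flat)
    (rs : List A) (h : LCI.IsKoszulRegularSeq A rs) : LCI.IsKoszulRegularSeq B (rs.map φ) := by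
  rw [← List.ofFn_get rs] at h
  have h2 := Synt92.CubeBase.isKoszulRegularSeq_of_acyc _ (Synt92.CubeBase.acyc_flat_ringHom φ hφ _
    ((Synt92.CubeBase.isKoszulRegularSeq_iff _).1 h))
  rw [← List.map_ofFn, List.ofFn_get] at h2
  exact h2

/-- Restriction between affine opens is flat. -/
theorem flat_res {V W : X.Opens} (hV : IsAffineOpen V) (hW : IsAffineOpen W) (h : W ≤ V) :
    (X.presheaf.map (homOfLE h).op).hom.Flat := by
  have h1 := HasRingHomProperty.appLE @Flat (𝟙 X) inferInstance ⟨V, hV⟩ ⟨W, hW⟩ (e := h)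
  simp only [Scheme.Hom.appLE, Scheme.Hom.id_app, Category.id_comp] at h1
  exact h1

variable (U : X.Opens) (F : X.Modules) [F.IsQuasicoherent] (hFl : FlatMod.IsFlat F)
  {W : X.Opens} (hW : IsAffineOpen W) (gs : List Γ(X, W))
  (hreg : LCI.IsKoszulRegularSeq Γ(X, W) gs)
  (hcov : U ⊓ W = ⨆ i : Fin gs.length, X.basicOpen (gs.get i))

omit [F.IsQuasicoherent] in
theorem inj_surj_transport {A A' B B' : X.Opens} (hA : A = A') (hB : B = B') (h : B ≤ A) (h' : B' ≤ A')
    (P : Prop) :
    (P → Function.Injective (F.presheaf.map (homOfLE h).op)) →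
      (P → Function.Injective (F.presheaf.map (homOfLE h').op)) := by
  subst hA hB
  exact id

omit [F.IsQuasicoherent] in
theorem surj_transport {A A' B B' : X.Opens} (hA : A = A') (hB : B = B') (h : B ≤ A) (h' : B' ≤ A') :
    Function.Surjective (F.presheaf.map (homOfLE h).op) →
      Function.Surjective (F.presheaf.map (homOfLE h').op) := by
  subst hA hB
  exact id

include hW hcov in
/-- On an affine open where `U` is a union of basic opens, everything is a Koszul colimit; for a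
Koszul-regular sequence and a flat module those vanish below the top degree. -/
theorem local_vanishing (hreg : LCI.IsKoszulRegularSeq Γ(X, W) gs) (hFl : FlatMod.IsFlat F) :
    (0 < gs.length → Function.Injective (F.presheaf.map (homOfLE (inf_le_right : U ⊓ W ≤ W)).op)) ∧
    (1 < gs.length → Function.Surjective (F.presheaf.map (homOfLE (inf_le_right : U ⊓ W ≤ W)).op)) ∧
    ∀ q : ℕ, 1 ≤ q → q + 1 < gs.length →
      Subsingleton (CohTop.HU (Coh.toAb (F.restrict U.ι)) q (U.ι ⁻¹ᵁ W)) := by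
  haveI : IsAffine (W : Scheme.{u}) := hW
  let F' := F.restrict W.ι
  haveI : F'.IsQuasicoherent := inferInstance
  let fs := gs.map W.topIso.inv
  have hlen : fs.length = gs.length := List.length_map ..
  have hreg' : LCI.IsKoszulRegularSeq Γ((W : Scheme.{u}), ⊤) fs :=
    koszulRegular_map W.topIso.inv.hom (.of_bijective (ConcreteCategory.bijective_of_isIso _)) gs hreg
  haveI hflat : Module.Flat Γ((W : Scheme.{u}), ⊤) Γ(F', ⊤) :=
    Modules.AffineSections.flat_sections (Perfect.FlatPerfect.isFlat_restrict W.ι hFl) (isAffineOpen_top _)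
  haveI : Module.Flat Γ((W : Scheme.{u}), ⊤)
      (ModuleCat.of Γ((W : Scheme.{u}), ⊤) (Koszul.Stable.Sch.Top F')) := hflat
  have hlim : ∀ p : ℕ, p < gs.length →
      Subsingleton (CohIII.koszulHLim fs (ModuleCat.of Γ((W : Scheme.{u}), ⊤) (Koszul.Stable.Sch.Top F')) p) :=
    fun p hp => KoszulLimVanish.subsingleton_koszulHLim fs hreg' _ p (hlen ▸ hp)
  let U' : (W : Scheme.{u}).Opens := W.ι ⁻¹ᵁ U
  have himg : W.ι ''ᵁ U' = U ⊓ W := by
    rw [W.ι.image_preimage_eq_opensRange_inf, Scheme.Opens.opensRange_ι, inf_comm]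
  have htop : W.ι ''ᵁ ⊤ = W := W.ι_image_top
  have hU' : U' = ⨆ i : Fin fs.length, (W : Scheme.{u}).basicOpen (fs.get i) := by
    apply W.ι.image_injective
    dsimp only
    rw [himg, hcov, Scheme.Hom.image_iSup]
    refine le_antisymm (iSup_le fun i => ?_) (iSup_le fun i => ?_)
    · refine le_trans (le_of_eq ?_) (le_iSup _ ⟨i.1, hlen.symm ▸ i.2⟩)
      exact ((congrArg (fun t => W.ι ''ᵁ (W : Scheme.{u}).basicOpen t) (List.getElem_map _)).trans
        (Scheme.Opens.ι_image_basicOpen_topIso_inv W _)).symm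
    · refine le_trans (le_of_eq ?_) (le_iSup _ ⟨i.1, hlen ▸ i.2⟩)
      exact (congrArg (fun t => W.ι ''ᵁ (W : Scheme.{u}).basicOpen t) (List.getElem_map _)).trans
        (Scheme.Opens.ι_image_basicOpen_topIso_inv W _)
  obtain ⟨⟨eK⟩, ⟨eC⟩⟩ := Koszul.Stable.SchLow.nonempty_ker_coker F' fs U'
    (hU'.trans (Koszul.Stable.SchLow.union_eq fs).symm)
  refine ⟨fun hc => ?_, fun hc => ?_, fun q hq hc => ?_⟩
  · haveI := hlim 0 hc
    haveI := eK.toEquiv.subsingleton
    refine inj_surj_transport F htop himg (W.ι.image_mono le_top) _ True (fun _ => ?_) trivial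
    change Function.Injective (Koszul.Stable.SchLow.resU F' U')
    exact (AddMonoidHom.ker_eq_bot_iff _).1 (AddSubgroup.eq_bot_of_subsingleton _)
  · haveI := hlim 1 hc
    haveI := eC.toEquiv.subsingleton
    refine surj_transport F htop himg (W.ι.image_mono le_top) _ ?_
    change Function.Surjective (Koszul.Stable.SchLow.resU F' U')
    exact AddMonoidHom.range_eq_top.1 (QuotientAddGroup.subsingleton_iff.1 inferInstance)
  · haveI := hlim (q + 1) hc
    haveI : ∀ i : Fin fs.length, IsAffine ((W : Scheme.{u}).basicOpen (fs.get i)) := fun i =>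
      (isAffineOpen_top (W : Scheme.{u})).basicOpen _
    obtain ⟨e⟩ := Koszul.Stable.SchHH.nonempty_HHon F' fs
      (fun i => (isAffineOpen_top (W : Scheme.{u})).basicOpen _) U' hU' q hq
    obtain ⟨e₁⟩ := ZarCoh.Morph.nonempty_HHon_equiv F' U' q
    haveI : Subsingleton (CohTop.HU (Coh.toAb F) q (W.ι ''ᵁ U')) :=
      ((ZarCoh.Compare.restrEquiv W.ι.isOpenEmbedding U' q (Coh.toAb F)).trans
        (e₁.symm.trans e)).toEquiv.subsingleton
    have h2 : U.ι ''ᵁ (U.ι ⁻¹ᵁ W) = U ⊓ W := by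
      rw [U.ι.image_preimage_eq_opensRange_inf, Scheme.Opens.opensRange_ι]
    have h3 : Subsingleton (CohTop.HU (Coh.toAb F) q (U.ι ''ᵁ (U.ι ⁻¹ᵁ W))) := by
      rw [h2, ← himg]; infer_instance
    exact @Equiv.subsingleton _ _
      (ZarCoh.Compare.restrEquiv U.ι.isOpenEmbedding (U.ι ⁻¹ᵁ W) q (Coh.toAb F)).symm.toEquiv h3

omit [F.IsQuasicoherent] in
/-- The unit on sections is restriction. -/
theorem surj_inj {W : X.Opens} (_ : IsAffineOpen W)
    (h : Function.Injective (F.presheaf.map (homOfLE (inf_le_right : U ⊓ W ≤ W)).op)) :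
    Function.Injective (((GammaZ.η U.ι).app F).app W) :=
  inj_surj_transport F rfl (by rw [U.ι.image_preimage_eq_opensRange_inf, Scheme.Opens.opensRange_ι])
    inf_le_right (U.ι.image_preimage_le W) True (fun _ => h) trivial

omit [F.IsQuasicoherent] in
theorem surj_η {W : X.Opens} (_ : IsAffineOpen W)
    (h : Function.Surjective (F.presheaf.map (homOfLE (inf_le_right : U ⊓ W ≤ W)).op)) :
    Function.Surjective (((GammaZ.η U.ι).app F).app W) :=
  surj_transport F rfl (by rw [U.ι.image_preimage_eq_opensRange_inf, Scheme.Opens.opensRange_ι])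
    inf_le_right (U.ι.image_preimage_le W) h

omit [F.IsQuasicoherent] in
theorem subsingleton_HU_of_iso {Y : Scheme.{u}} {M N : Y.Modules} (e : M ≅ N) (n : ℕ) (V : Y.Opens)
    [Subsingleton (CohTop.HU (Coh.toAb M) n V)] : Subsingleton (CohTop.HU (Coh.toAb N) n V) := by
  let eA : Coh.toAb M ≅ Coh.toAb N := (SheafOfModules.toSheaf Y.ringCatSheaf).mapIso e
  exact @Equiv.subsingleton _ _
    ((Abelian.extFunctorObj _ n).mapIso eA).addCommGroupIsoToAddEquiv.toEquiv.symm ‹_›

include hFl in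
theorem chart (c : ℕ) (V : X.Opens) (hVa : IsAffineOpen V) (fs : List Γ(X, V)) (hc : fs.length = c)
    (hr : LCI.IsKoszulRegularSeq Γ(X, V) fs)
    (hUV : ∀ z ∈ V, z ∈ U ↔ ∃ f ∈ fs, z ∈ X.basicOpen f) (W : X.Opens) (hW : IsAffineOpen W) (hle : W ≤ V) :
    (0 < c → Function.Injective (F.presheaf.map (homOfLE (inf_le_right : U ⊓ W ≤ W)).op)) ∧
    (1 < c → Function.Surjective (F.presheaf.map (homOfLE (inf_le_right : U ⊓ W ≤ W)).op)) ∧
    ∀ q : ℕ, 1 ≤ q → q + 1 < c →
      Subsingleton (CohTop.HU (Coh.toAb (F.restrict U.ι)) q (U.ι ⁻¹ᵁ W)) := by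
  subst hc
  let gs := fs.map (X.presheaf.map (homOfLE hle).op)
  have h := local_vanishing U F hW gs ?_ (koszulRegular_map _ (flat_res hVa hW hle) fs hr) hFl
  · rwa [List.length_map] at h
  · refine TopologicalSpace.Opens.ext (Set.ext fun y => ⟨fun hy => ?_, fun hy => ?_⟩)
    · obtain ⟨hyU, hyW⟩ := hy
      obtain ⟨f, hf, hyf⟩ := (hUV y (hle hyW)).1 hyU
      obtain ⟨n, hn, rfl⟩ := List.getElem_of_mem hf
      refine TopologicalSpace.Opens.mem_iSup.2 ⟨⟨n, by simpa [gs] using hn⟩, ?_⟩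
      simp only [gs, List.get_eq_getElem, List.getElem_map, Scheme.basicOpen_res]
      exact ⟨hyW, hyf⟩
    · obtain ⟨a, ha⟩ := TopologicalSpace.Opens.mem_iSup.1 hy
      simp only [gs, List.get_eq_getElem, List.getElem_map, Scheme.basicOpen_res] at ha
      exact ⟨(hUV y (hle ha.1)).2 ⟨_, List.getElem_mem _, ha.2⟩, ha.1⟩

section Main

variable [HasInjectiveResolutions X.Modules] (c : ℕ)
  (hT : ∀ x : X, ∃ (V : X.Opens) (fs : List Γ(X, V)), x ∈ V ∧ IsAffineOpen V ∧ fs.length = c ∧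
      LCI.IsKoszulRegularSeq Γ(X, V) fs ∧ ∀ z ∈ V, z ∈ U ↔ ∃ f ∈ fs, z ∈ X.basicOpen f)

include hFl hT

theorem exists_chart (x : X) (W₀ : X.Opens) (hx : x ∈ W₀) :
    ∃ (W : X.Opens), IsAffineOpen W ∧ x ∈ W ∧ W ≤ W₀ ∧
    (0 < c → Function.Injective (F.presheaf.map (homOfLE (inf_le_right : U ⊓ W ≤ W)).op)) ∧
    (1 < c → Function.Surjective (F.presheaf.map (homOfLE (inf_le_right : U ⊓ W ≤ W)).op)) ∧
    ∀ q : ℕ, 1 ≤ q → q + 1 < c →
      Subsingleton (CohTop.HU (Coh.toAb (F.restrict U.ι)) q (U.ι ⁻¹ᵁ W)) := by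
  obtain ⟨V, fs, hxV, hVa, hc, hr, hUV⟩ := hT x
  obtain ⟨W, hW, hxW, hle⟩ := exists_isAffineOpen_mem_and_subset (U := W₀ ⊓ V) (x := x) ⟨hx, hxV⟩
  exact ⟨W, hW, hxW, fun y hy => (hle hy).1,
    chart U F hFl c V hVa fs hc hr hUV W hW fun y hy => (hle hy).2⟩

/-- `F ⟶ j_*(F|_U)` is injective for `0 < c`. -/
theorem mono_η (hc : 0 < c) : Mono ((GammaZ.η U.ι).app F) := by
  refine (Modules.Stalk.mono_iff_stalk_injective _).2 fun x => ?_
  rw [injective_iff_map_eq_zero]
  intro t ht
  obtain ⟨W₀, hx, s, rfl⟩ := TopCat.Presheaf.exists_germ_eq F.presheaf t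
  erw [TopCat.Presheaf.stalkFunctor_map_germ_apply] at ht
  obtain ⟨W₁, hx₁, i, j, he⟩ := TopCat.Presheaf.germ_eq (((GammaZ.tFun U.ι).obj F).presheaf) x hx hx
    _ 0 (ht.trans (map_zero _).symm)
  obtain ⟨W, hW, hxW, hle, hinj, -, -⟩ := exists_chart U F hFl c hT x W₁ hx₁
  have h0 : F.presheaf.map (homOfLE (hle.trans (leOfHom i))).op s = 0 := by
    apply surj_inj U F hW (hinj hc)
    rw [map_zero]
    have hn := ConcreteCategory.congr_hom (((GammaZ.η U.ι).app F).mapPresheaf.naturality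
      (homOfLE (hle.trans (leOfHom i))).op) s
    refine hn.trans ?_
    have he' : ((GammaZ.tFun U.ι).obj F).presheaf.map i.op (((GammaZ.η U.ι).app F).app W₀ s) = 0 :=
      Eq.trans he (map_zero _)
    refine (ConcreteCategory.congr_hom (((GammaZ.tFun U.ι).obj F).presheaf.map_comp i.op (homOfLE hle).op) _).trans ?_
    exact (congrArg (((GammaZ.tFun U.ι).obj F).presheaf.map (homOfLE hle).op) he').trans
      ((((GammaZ.tFun U.ι).obj F).presheaf.map (homOfLE hle).op).hom.map_zero)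
  rw [← TopCat.Presheaf.germ_res_apply F.presheaf (homOfLE (hle.trans (leOfHom i))) x hxW s]
  exact (congrArg _ h0).trans (map_zero _)

/-- `F ⟶ j_*(F|_U)` is surjective for `1 < c`. -/
theorem epi_η (hc : 1 < c) : Epi ((GammaZ.η U.ι).app F) := by
  refine (Modules.Stalk.epi_iff_stalk_surjective _).2 fun x t => ?_
  obtain ⟨W₀, hx, s, rfl⟩ := TopCat.Presheaf.exists_germ_eq ((GammaZ.tFun U.ι).obj F).presheaf t
  obtain ⟨W, hW, hxW, hle, -, hsurj, -⟩ := exists_chart U F hFl c hT x W₀ hx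
  obtain ⟨a, ha⟩ := surj_η U F hW (hsurj hc) (((GammaZ.tFun U.ι).obj F).presheaf.map (homOfLE hle).op s)
  refine ⟨F.presheaf.germ W x hxW a, ?_⟩
  erw [TopCat.Presheaf.stalkFunctor_map_germ_apply]
  exact (congrArg _ ha).trans (TopCat.Presheaf.germ_res_apply _ _ _ _ _)

/-- The higher direct images `R^q j_* (F|_U)` vanish for `q + 1 < c`. -/
theorem isZero_tFun (k : ℕ) (hk : k + 2 < c) :
    IsZero (((GammaZ.tFun U.ι).rightDerived (k + 1)).obj F) := by
  refine Modules.Stalk.isZero_iff_stalk_subsingleton.2 fun x => ?_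
  let G := (Scheme.Modules.restrictFunctor U.ι).obj F
  let I := injectiveResolution G
  obtain ⟨i⟩ := Syzygy.nonempty_rightDerived_iso I U.ι k
  have h0 : Subsingleton ((Syzygy.R I U.ι k).presheaf.stalk x) := by
    refine subsingleton_of_forall_eq 0 fun t => ?_
    obtain ⟨W₀, hxW₀, s, rfl⟩ := TopCat.Presheaf.exists_germ_eq (Syzygy.R I U.ι k).presheaf t
    obtain ⟨W₁, h₁, hxW₁, z, hz⟩ := QCohR.e_surj U.ι I k W₀ s x hxW₀
    obtain ⟨W, hW, hxW, hle, -, -, hH⟩ := exists_chart U F hFl c hT x W₁ hxW₁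
    haveI : Subsingleton (CohTop.HU (Coh.toAb G) (k + 1) (U.ι ⁻¹ᵁ W)) := hH (k + 1) (by omega) (by omega)
    haveI : Subsingleton (CohTop.HU (Coh.toAb (Syzygy.Z I 0)) (k + 1) (U.ι ⁻¹ᵁ W)) :=
      subsingleton_HU_of_iso (Syzygy.augIso I) _ _
    rw [← TopCat.Presheaf.germ_res_apply _ (homOfLE (hle.trans h₁)) x hxW]
    have hs : (Syzygy.R I U.ι k).presheaf.map (homOfLE (hle.trans h₁)).op s = 0 := by
      have h3 := QCohR.e_nat U.ι I k hle z
      have h4 : ZarCoh.Basic.rs (Coh.toAb (Syzygy.Z I 0)) (k + 1) (U.ι.preimage_mono hle) z = 0 :=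
        @Subsingleton.elim (CohTop.HU (Coh.toAb (Syzygy.Z I 0)) (k + 1) (U.ι ⁻¹ᵁ W)) _ _ _
      rw [hz] at h3
      exact ((ConcreteCategory.congr_hom ((Syzygy.R I U.ι k).presheaf.map_comp
        (homOfLE h₁).op (homOfLE hle).op) s).trans (h3.symm.trans ((congrArg _ h4).trans (map_zero _))))
    rw [hs]
    exact map_zero _
  exact ((Modules.Stalk.stalkFunctor X x).mapIso
    ((H30.DerivedNat.precompNatIso (Scheme.Modules.restrictFunctor U.ι)
      (Scheme.Modules.pushforward U.ι) (k + 1)).app F ≪≫ i)).addCommGroupIsoToAddEquiv.toEquiv.subsingleton_congr.2 h0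

/-- Local cohomology sheaves of a flat quasi-coherent module vanish below `c`. -/
theorem isZero_rightDerived_gammaZ_lt (i : ℕ) (hi : i < c) :
    IsZero (((DCoh.gammaZ U.ι).rightDerived i).obj F) := by
  let P := injectiveResolution F
  have hS := H30.DerivedSES.cx_shortExact (GammaZ.ι U.ι) (GammaZ.η U.ι)
    (fun Z => GammaZ.ι_η U.ι Z) (GammaZ.seq_shortExact U.ι) P
  let S := H30.DerivedSES.cx (GammaZ.ι U.ι) (GammaZ.η U.ι) (fun Z => GammaZ.ι_η U.ι Z) P.cocomplex
  -- the map on `R⁰` induced by `η` is `η`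
  have hg0 : HomologicalComplex.homologyMap S.g 0 =
      (P.isoRightDerivedObj (𝟭 X.Modules) 0).inv ≫ (NatTrans.rightDerived (GammaZ.η U.ι) 0).app F ≫
        (P.isoRightDerivedObj (GammaZ.tFun U.ι) 0).hom := by
    rw [InjectiveResolution.rightDerived_app_eq (GammaZ.η U.ι) P 0]
    simp only [Category.assoc, Iso.inv_hom_id, Category.comp_id, Iso.inv_hom_id_assoc]
    rfl
  have hη : (NatTrans.rightDerived (GammaZ.η U.ι) 0).app F =
      inv ((𝟭 X.Modules).toRightDerivedZero.app F) ≫ (GammaZ.η U.ι).app F ≫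
        (GammaZ.tFun U.ι).toRightDerivedZero.app F := by
    rw [ExtShDivisor.toRightDerivedZero_natural, IsIso.inv_hom_id_assoc]
  have hi₁ : IsIso (P.isoRightDerivedObj (𝟭 X.Modules) 0).inv := Iso.isIso_inv _
  have hi₂ : IsIso (P.isoRightDerivedObj (GammaZ.tFun U.ι) 0).hom := Iso.isIso_hom _
  refine IsZero.of_iso ?_ (P.isoRightDerivedObj (DCoh.gammaZ U.ι) i)
  change IsZero (S.X₁.homology i)
  cases i with
  | zero =>
    haveI := hS.mono_f
    haveI : Mono (HomologicalComplex.homologyMap S.g 0) := by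
      haveI := mono_η U F hFl c hT hi
      haveI : IsIso ((GammaZ.tFun U.ι).toRightDerivedZero.app F) := inferInstance
      rw [hg0, hη]
      let 𝔐 := MorphismProperty.monomorphisms X.Modules
      exact 𝔐.comp_mem _ _ (@IsIso.mono_of_iso _ _ _ _ _ hi₁)
        (𝔐.comp_mem _ _ (𝔐.comp_mem _ _ (IsIso.mono_of_iso (inv ((𝟭 X.Modules).toRightDerivedZero.app F)))
          (𝔐.comp_mem _ _ ‹Mono ((GammaZ.η U.ι).app F)› (IsIso.mono_of_iso _)))
          (@IsIso.mono_of_iso _ _ _ _ _ hi₂))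
    haveI : Mono (HomologicalComplex.homologyMap S.f 0) := by
      haveI : Mono (HomologicalComplex.cyclesMap S.f 0) := inferInstance
      have h := HomologicalComplex.homologyπ_naturality S.f 0
      haveI : IsIso (S.X₁.homologyπ 0) := (CochainComplex.isoHomologyπ₀ S.X₁).isIso_hom
      haveI : IsIso (S.X₂.homologyπ 0) := (CochainComplex.isoHomologyπ₀ S.X₂).isIso_hom
      have e : HomologicalComplex.homologyMap S.f 0 =
          inv (S.X₁.homologyπ 0) ≫ HomologicalComplex.cyclesMap S.f 0 ≫ S.X₂.homologyπ 0 := by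
        rw [← h, IsIso.inv_hom_id_assoc]
      rw [e]; infer_instance
    refine IsZero.of_mono_eq_zero (HomologicalComplex.homologyMap S.f 0) ?_
    rw [← cancel_mono (HomologicalComplex.homologyMap S.g 0), zero_comp,
      ← HomologicalComplex.homologyMap_comp, S.zero, HomologicalComplex.homologyMap_zero]
  | succ p =>
    have h2 : IsZero (S.X₂.homology (p + 1)) := (P.cocomplex_exactAt_succ p).isZero_homology
    haveI hep : Epi (hS.δ p (p + 1) rfl) :=
      (hS.homology_exact₁ p (p + 1) rfl).epi_f (h2.eq_of_tgt _ _)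
    have hd : hS.δ p (p + 1) rfl = 0 := by
      cases p with
      | zero =>
        haveI : Epi (HomologicalComplex.homologyMap S.g 0) := by
          haveI := epi_η U F hFl c hT hi
          haveI : IsIso ((GammaZ.tFun U.ι).toRightDerivedZero.app F) := inferInstance
          rw [hg0, hη]
          let 𝔈 := MorphismProperty.epimorphisms X.Modules
          exact 𝔈.comp_mem _ _ (@IsIso.epi_of_iso _ _ _ _ _ hi₁)
            (𝔈.comp_mem _ _ (𝔈.comp_mem _ _ (IsIso.epi_of_iso (inv ((𝟭 X.Modules).toRightDerivedZero.app F)))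
              (𝔈.comp_mem _ _ ‹Epi ((GammaZ.η U.ι).app F)› (IsIso.epi_of_iso _)))
              (@IsIso.epi_of_iso _ _ _ _ _ hi₂))
        rw [← cancel_epi (HomologicalComplex.homologyMap S.g 0), comp_zero]
        exact hS.comp_δ 0 1 rfl
      | succ k =>
        exact ((isZero_tFun U F hFl c hT k (by omega)).of_iso
          (P.isoRightDerivedObj (GammaZ.tFun U.ι) (k + 1)).symm).eq_of_src _ _
    exact IsZero.of_epi_eq_zero _ hd

end Main

end Groth.Agent.H41.LocCohFlat
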