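import Groth.Agent.S5630
import Groth.Agent.Lib.FibreVanish36.Main
import Groth.Agent.Lib.FibreVanish36.Coherent
import Groth.Agent.Lib.FibreDim.Basic
import Groth.Agent.Lib.ProjSpace.BaseChange
import Groth.Agent.Lib.Perfect.QCohD
import Groth.Agent.H56.RelPC.RelTor
import Groth.Agent.H56.RelPC.FlatAmp
import Groth.Prelude.Def_RedSub

/-!
# Tor amplitude of `Rf_*` for proper flat morphisms with small fibres
-/

set_option autoImplicit false
set_option linter.style.haveILetI false

universe u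

open CategoryTheory Limits AlgebraicGeometry

attribute [local instance] HasDerivedCategory.standard

namespace Groth.Agent.H41.RpushTorDim

open Groth.Agent Groth.Agent.Lib Groth.Agent.Lib.DerivedOX

variable {X Y : Scheme.{u}}

/-- A locally projective morphism is proper. -/
theorem isProper_of_isLocallyProjective (f : X ⟶ Y) (h : RedSub.IsLocallyProjective (Over.mk f)) :
    IsProper f := by
  choose V hV n e he hc using h
  refine IsZariskiLocalAtTarget.of_iSup_eq_top (P := @IsProper) V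
    (TopologicalSpace.Opens.ext (Set.eq_univ_of_forall fun y =>
      TopologicalSpace.Opens.mem_iSup.2 ⟨y, hV y⟩)) fun y => ?_
  haveI := he y
  haveI := ProjSpace.BaseChange.isProper_toBase (n y) ((V y : Y.Opens) : Scheme.{u})
  haveI : IsProper (pullback.snd f (V y).ι) := by
    have : IsProper (e y ≫ CohB1.ProjSpaceOver.toBase (n y) ((V y : Y.Opens) : Scheme.{u})) := inferInstance
    rw [hc y] at this
    exact this
  exact (MorphismProperty.cancel_left_of_respectsIso @IsProper (pullbackRestrictIsoRestrict f (V y)).hom _).1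
    (by rw [pullbackRestrictIsoRestrict_hom_morphismRestrict]; infer_instance)

/-- `R^i f_*` of quasi-coherent modules vanishes above the fibre dimension. -/
theorem isZero_HD_Rpush (f : X ⟶ Y) [IsProper f] [DCoh.HasRpush f] (n : ℕ)
    (hn : ∀ x : X, FlatMor.fibreDimAt f x ≤ (n : WithBot ℕ∞)) (F : X.Modules)
    [F.IsQuasicoherent] (i : ℤ) (hi : (n : ℤ) < i) :
    IsZero (DCoh.HD ((DCoh.Rpush f).obj (DCoh.inD X F)) i) := by
  obtain ⟨p, rfl⟩ : ∃ p : ℕ, i = ((p + 1 : ℕ) : ℤ) := ⟨(i - 1).toNat, by omega⟩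
  haveI := CohDelta.Sect.enoughInjectives (X := X)
  obtain ⟨θ⟩ := RpushQCoh.nonempty_HD_Rpush f (DCoh.inD X F) ((p + 1 : ℕ) : ℤ)
  obtain ⟨θ'⟩ := RpushQCoh.nonempty_RS_iso f F (p + 1)
  let I := injectiveResolution F
  obtain ⟨e⟩ := CohDelta.Syzygy.nonempty_rightDerived_iso I f p
  refine IsZero.of_iso ?_ (θ ≪≫ θ' ≪≫ e)
  refine Modules.Stalk.isZero_iff_stalk_subsingleton.2 fun y => ?_
  obtain ⟨i'⟩ := CohDelta.AbR.nonempty_rpushAb_iso f I p
  have h := FibreVanish36.Main.stalk_vanish f FibreVanish36.Coherent.cohVanish y n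
    (FibreDim.Basic.topologicalKrullDim_fiber_le f fun x _ => hn x) F (p + 1) (by omega)
  exact AddCommGrpCat.subsingleton_of_isZero (h.of_iso
    ((sheafToPresheaf (Opens.grothendieckTopology ↥Y) AddCommGrpCat.{u} ⋙
      TopCat.Presheaf.stalkFunctor AddCommGrpCat.{u} y).mapIso i').symm)

/-- Tor amplitude of the direct image. -/
theorem hasTorAmplitudeIn_Rpush (f : X ⟶ Y) [IsProper f] [Flat f] [DCoh.HasRpush f] (n : ℕ)
    (hn : ∀ x : X, FlatMor.fibreDimAt f x ≤ (n : WithBot ℕ∞)) (E : DCoh.D X) (hqc : DCoh.IsQCohD E)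
    (a b : ℤ) (hab : DCoh.HasFlatAmplitudeIn a b E) :
    DCoh.HasTorAmplitudeIn a (b + n) ((DCoh.Rpush f).obj E) := by
  obtain ⟨E₀, hv, hflat, ⟨e⟩⟩ := hab
  have htor : DerSch.HasTorAmplitude f a b E₀ := H56.RelPC.hasTorAmplitude_of_flat_terms f E₀ a b hv
    fun i => H56.RelPC.RelTor.isFlatOver_of_isFlat f (hflat i)
  have hqc₀ : DCoh.IsQCohD (DCoh.toD X E₀) := fun n => (WayOut.Scheme.qc X).prop_of_iso
    ((DerivedCategory.homologyFunctor X.Modules n).mapIso e).symm (hqc n)
  have hEa : E.IsGE a := (DerivedCategory.isGE_iff _ _).2 fun i hi =>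
    (HomologicalComplex.ExactAt.isZero_homology (HomologicalComplex.ExactAt.of_isZero (hv i (Or.inl hi)))).of_iso
      ((DerivedCategory.homologyFunctor X.Modules i).mapIso e.symm ≪≫ Amplitude.hdQ E₀ i)
  have hEb : E.IsLE b := (DerivedCategory.isLE_iff _ _).2 fun i hi =>
    (HomologicalComplex.ExactAt.isZero_homology (HomologicalComplex.ExactAt.of_isZero (hv i (Or.inr hi)))).of_iso
      ((DerivedCategory.homologyFunctor X.Modules i).mapIso e.symm ≪≫ Amplitude.hdQ E₀ i)
  haveI := hEa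
  haveI := hEb
  haveI := S5630.isLE_Rpush f n (fun F hF i hi => haveI : F.IsQuasicoherent := hF
    isZero_HD_Rpush f n hn F i hi) E hqc a b
  intro G _ i hi
  rcases hi with hi | hi
  · exact (S5630.isZero_ltensorMod_Rpush f E₀ hqc₀ htor G i hi).of_iso
      ((DerivedCategory.homologyFunctor Y.Modules i).mapIso
        ((DCoh.LTensorMod G).mapIso ((DCoh.Rpush f).mapIso e.symm)))
  · exact S5630.isZero_ltensorMod_of_isLE _ (b + n) G i hi

end Groth.Agent.H41.RpushTorDim
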