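import Groth.Agent.H41.KoszulTorDim
import Groth.Agent.H41.SmoothDiagCodim
import Groth.Agent.H54.SmoothDiagScheme
import Groth.Agent.H26.RegKinds
import Groth.Agent.Lib.BettiExact.TorProduct
import Groth.Agent.Lib.BettiExact.TorComp
import Mathlib.AlgebraicGeometry.Morphisms.Smooth
import Mathlib.RingTheory.RingHom.FaithfullyFlat

/-!
# A morphism from a flat scheme to a smooth scheme of relative dimension `n` has tor dimension `≤ n`
-/

set_option autoImplicit false
set_option linter.style.haveILetI false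

universe u

open CategoryTheory CategoryTheory.Limits AlgebraicGeometry HomologicalComplex RingTheory.Sequence
open Groth.Agent.Lib Groth.Agent.Lib.DR Groth.Agent.Lib.DR.FiniteComplex

attribute [local instance] HasDerivedCategory.standard

namespace Groth.Agent.H41.TorDimSmooth

theorem torAmp_of_stalks {Y Z : Scheme.{u}} (g : Y ⟶ Z) (n : ℕ)
    (h : ∀ y : Y,
      letI := (g.stalkMap y).hom.toAlgebra
      DRing.HasTorDimLE (Z.presheaf.stalk (g y)) n (Y.presheaf.stalk y)) :
    DerSch.HasTorDimLE g n := fun y => by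
  letI : Algebra (Z.presheaf.stalk (g y)) (Y.presheaf.stalk y) := (g.stalkMap y).hom.toAlgebra
  let e : (DerSch.stalkOver g y).obj (Coh.structureModule Y) ≅
      ModuleCat.of (Z.presheaf.stalk (g y)) (Y.presheaf.stalk y) :=
    LinearEquiv.toModuleIso <|
      @AddEquiv.toLinearEquiv _ _ _ _ _ _ (((DerSch.stalkOver g y).obj (Coh.structureModule Y)).isModule) _
        (BettiExact.TorComp.stalkUnitEquiv Y y).toAddEquiv
        (fun c (v : (Coh.structureModule Y).presheaf.stalk y) =>
          (BettiExact.TorComp.stalkUnitEquiv Y y).map_smul ((g.stalkMap y).hom c) v)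
  exact Bdd.of_iso ((TorDim.hasTorDimLE_iff (Y.presheaf.stalk y) n).1 (h y))
    (DerivedCategory.Q.mapIso
    (((singleMapHomologicalComplex (DerSch.stalkOver g y) (ComplexShape.up ℤ) 0).app _) ≪≫
      (single (ModuleCat.{u} (Z.presheaf.stalk (g y))) (ComplexShape.up ℤ) 0).mapIso e) ≪≫
    ((DerivedCategory.singleFunctorIsoCompQ _ 0).app _).symm).symm

/-- Tor dimension transported along ring isomorphisms. -/
theorem torDim_congr {A A' B B' : Type u} [CommRing A] [CommRing A'] [CommRing B] [CommRing B']
    (φ : A →+* B) (φ' : A' →+* B') (α : A →+* A') (hα : Function.Bijective α)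
    (β : B →+* B') (hβ : Function.Bijective β) (hc : φ'.comp α = β.comp φ) {d : ℕ}
    (h : letI := φ.toAlgebra; DRing.HasTorDimLE A d B) :
    letI := φ'.toAlgebra; DRing.HasTorDimLE A' d B' := by
  letI := φ.toAlgebra
  letI := φ'.toAlgebra
  letI : Algebra B B' := β.toAlgebra
  letI : Algebra A B' := (β.comp φ).toAlgebra
  letI : Algebra A A' := α.toAlgebra
  haveI : IsScalarTower A B B' := IsScalarTower.of_algebraMap_eq fun _ => rfl
  haveI : IsScalarTower A A' B' :=
    IsScalarTower.of_algebraMap_eq fun r => (RingHom.congr_fun hc r).symm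
  haveI : Module.Flat B B' := RingHom.Flat.of_bijective hβ
  let eα : A ≃ₐ[A] A' := AlgEquiv.ofBijective (Algebra.ofId A A') hα
  haveI : IsLocalization (⊥ : Submonoid A) A :=
    IsLocalization.of_le_isUnit fun x hx => by
      rw [Submonoid.mem_bot] at hx; subst hx; exact isUnit_one
  haveI : IsLocalization (⊥ : Submonoid A) A' :=
    IsLocalization.isLocalization_of_algEquiv (⊥ : Submonoid A) eα
  exact H54.TorDimHom.hasTorDimLE_localization (⊥ : Submonoid A) B'
    (H54.TorDimHom.hasTorDimLE_of_flat h B')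

theorem stalkCongr_stalkMap {C Y : Scheme.{u}} {g g' : C ⟶ Y} (h : g = g') (z : C) :
    (Y.presheaf.stalkCongr (Inseparable.of_eq (show g' z = g z by rw [h]))).hom ≫ g.stalkMap z =
      g'.stalkMap z := by
  subst h
  simp [TopCat.Presheaf.stalkCongr]

/-- Tor dimension of stalk maps can be checked on open charts. -/
theorem stalk_of_charts {X Y C E : Scheme.{u}} (i : X ⟶ Y) (c : C ⟶ E) (k : C ⟶ X) [IsOpenImmersion k]
    (j : E ⟶ Y) [IsOpenImmersion j] (w : k ≫ i = c ≫ j) (z : C) {d : ℕ}
    (h : letI := (c.stalkMap z).hom.toAlgebra; DRing.HasTorDimLE (E.presheaf.stalk (c z)) d (C.presheaf.stalk z)) :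
    letI := (i.stalkMap (k z)).hom.toAlgebra
    DRing.HasTorDimLE (Y.presheaf.stalk (i (k z))) d (X.presheaf.stalk (k z)) := by
  have hp : i (k z) = j (c z) := congrArg (fun m : C ⟶ Y => m z) w
  haveI : IsIso (k.stalkMap z) := inferInstance
  haveI : IsIso (j.stalkMap (c z)) := inferInstance
  let γ := Y.presheaf.stalkCongr (Inseparable.of_eq hp.symm)
  refine torDim_congr (c.stalkMap z).hom (i.stalkMap (k z)).hom
    (inv (j.stalkMap (c z)) ≫ γ.hom).hom (ConcreteCategory.bijective_of_isIso _)
    (inv (k.stalkMap z)).hom (ConcreteCategory.bijective_of_isIso _) ?_ h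
  rw [← CommRingCat.hom_comp, ← CommRingCat.hom_comp]
  congr 1
  have hs : γ.hom ≫ i.stalkMap (k z) ≫ k.stalkMap z = j.stalkMap (c z) ≫ c.stalkMap z := by
    rw [← Scheme.Hom.stalkMap_comp, ← Scheme.Hom.stalkMap_comp]
    exact stalkCongr_stalkMap w z
  rw [IsIso.eq_comp_inv, Category.assoc, Category.assoc, IsIso.inv_comp_eq, hs]

/-- A closed immersion of affine schemes cut out by a weakly regular sequence of length `n`. -/
theorem spec_stalk {E B : CommRingCat.{u}} (φ : E ⟶ B) (hφ : Function.Surjective φ.hom) (rs : List E)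
    (hreg : IsWeaklyRegular E rs) (hker : RingHom.ker φ.hom = Ideal.ofList rs) (z : ↥(Spec B)) :
    letI := ((Spec.map φ).stalkMap z).hom.toAlgebra
    DRing.HasTorDimLE ((Spec E).presheaf.stalk (Spec.map φ z)) rs.length ((Spec B).presheaf.stalk z) := by
  haveI : IsClosedImmersion (Spec.map φ) := IsClosedImmersion.spec_of_surjective φ hφ
  refine KoszulTorDim.stalk_hasTorDimLE (Spec.map φ) rs.length ⟨inferInstance, fun w => ?_⟩ z
  let θ : E ≃+* Γ(Spec E, ⊤) := (Scheme.ΓSpecIso E).commRingCatIsoToRingEquiv.symm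
  refine ⟨⟨⊤, isAffineOpen_top _⟩, trivial, inferInstance, rs.map θ, List.length_map _, ?_, ?_⟩
  · rcases eq_or_ne (Ideal.ofList (rs.map θ)) ⊤ with htop | htop
    · exfalso
      have : Subsingleton B := by
        rw [← (subsingleton_iff_zero_eq_one : (0 : B) = 1 ↔ _)]
        have h1 : (1 : E) ∈ Ideal.ofList rs := by
          have h2 : Ideal.map θ.toRingHom (Ideal.ofList rs) = ⊤ := by rw [Ideal.map_ofList]; exact htop
          have h3 : (1 : Γ(Spec E, ⊤)) ∈ Ideal.map θ.toRingHom (Ideal.ofList rs) := h2 ▸ Submodule.mem_top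
          obtain ⟨a, ha, ha1⟩ := (Ideal.mem_map_iff_of_surjective θ.toRingHom θ.surjective).mp h3
          rwa [θ.injective (ha1.trans (map_one θ).symm)] at ha
        rw [← hker, RingHom.mem_ker, map_one] at h1
        exact h1.symm
      exact (PrimeSpectrum.isEmpty_iff_subsingleton.mpr this).false w
    · exact H26.RegKinds.koszul_of_regular _ (show IsRegular Γ(Spec E, ⊤) (rs.map θ) from
        ⟨H54.SmoothDiagScheme.isWeaklyRegular_equiv θ rs hreg, fun h => htop
          (by rwa [smul_eq_mul, Ideal.mul_top, eq_comm] at h)⟩)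
  · show RingHom.ker ((Spec.map φ).appTop).hom = Ideal.ofList (rs.map θ.toRingHom)
    rw [← Ideal.map_ofList, ← hker]
    have hnat : (Scheme.ΓSpecIso E).inv ≫ (Spec.map φ).appTop = φ ≫ (Scheme.ΓSpecIso B).inv :=
      (Scheme.ΓSpecIso_inv_naturality φ).symm
    ext a
    obtain ⟨b, rfl⟩ := θ.surjective a
    have h1 : (Spec.map φ).appTop (θ b) = (Scheme.ΓSpecIso B).inv (φ b) := congr($hnat b)
    rw [show (θ b ∈ Ideal.map θ.toRingHom (RingHom.ker φ.hom)) ↔ b ∈ RingHom.ker φ.hom from
      ⟨fun h => by
        obtain ⟨a, ha, hab⟩ := (Ideal.mem_map_iff_of_surjective θ.toRingHom θ.surjective).mp h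
        rwa [θ.injective hab] at ha, fun h => Ideal.mem_map_of_mem θ.toRingHom h⟩]
    rw [RingHom.mem_ker, RingHom.mem_ker]
    constructor
    · intro h
      exact (Scheme.ΓSpecIso B).commRingCatIsoToRingEquiv.symm.injective
        ((h1.symm.trans h).trans (map_zero _).symm)
    · intro h
      exact h1.trans ((congrArg _ h).trans (map_zero _))

/-- The diagonal of a smooth morphism of relative dimension `n` has tor dimension `≤ n`. -/
theorem hasTorDimLE_diagonal {X Y : Scheme.{u}} (f : X ⟶ Y) (n : ℕ)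
    [SmoothOfRelativeDimension n f] : DerSch.HasTorDimLE (pullback.diagonal f) n :=
  torAmp_of_stalks _ n fun x => by
  obtain ⟨V, hV, U, hU, hxU, e, hstd⟩ :=
    SmoothOfRelativeDimension.exists_isStandardSmoothOfRelativeDimension (n := n) (f := f) x
  let A : Type u := Γ(Y, V)
  let B : Type u := Γ(X, U)
  let : Algebra A B := (f.appLE V U e).hom.toAlgebra
  have : Algebra.IsStandardSmoothOfRelativeDimension n A B := hstd
  obtain ⟨g, rs, hlen, hreg, hg1, hle, hgJ⟩ := SmoothDiagCodim.exists_diag A B n
  let E := TensorProduct A B B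
  let μ : E →+* B := (Algebra.TensorProduct.lmul' A (S := B)).toRingHom
  have hJ : ∀ z, z ∈ KaehlerDifferential.ideal A B ↔ μ z = 0 := fun z => RingHom.mem_ker
  have hμg : μ g = 1 := by
    have := (hJ _).mp hg1
    rwa [map_sub, map_one, sub_eq_zero] at this
  let Eg := Localization.Away g
  let μ' : Eg →+* B := IsLocalization.Away.lift g (g := μ) (by rw [hμg]; exact isUnit_one)
  have hμ' : μ'.comp (algebraMap E Eg) = μ := IsLocalization.Away.lift_comp g _
  have hsurj : Function.Surjective μ' := fun b => by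
    refine ⟨algebraMap E Eg (b ⊗ₜ 1), ?_⟩
    rw [← RingHom.comp_apply, hμ']
    exact mul_one b
  have hker : RingHom.ker μ' = Ideal.ofList (rs.map (algebraMap E Eg)) := by
    rw [← Ideal.map_ofList]
    refine le_antisymm (fun z hz => ?_) ?_
    · obtain ⟨⟨y, s⟩, hys⟩ := IsLocalization.surj (Submonoid.powers g) z
      have hy : y ∈ KaehlerDifferential.ideal A B := by
        rw [hJ, ← hμ', RingHom.comp_apply, ← hys, map_mul, (RingHom.mem_ker.mp hz), zero_mul]
      have h1 : algebraMap E Eg g * (z * algebraMap E Eg s) ∈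
          Ideal.map (algebraMap E Eg) (Ideal.ofList rs) := by
        rw [hys, ← map_mul]
        exact Ideal.mem_map_of_mem _ (hgJ y hy)
      rw [Ideal.unit_mul_mem_iff_mem _ (IsLocalization.Away.algebraMap_isUnit g),
        Ideal.mul_unit_mem_iff_mem _ (IsLocalization.map_units Eg s)] at h1
      exact h1
    · rw [Ideal.map_le_iff_le_comap]
      intro y hy
      rw [Ideal.mem_comap, RingHom.mem_ker, ← RingHom.comp_apply, hμ']
      exact (hJ y).mp (hle hy)
  have hreg' : IsWeaklyRegular Eg (rs.map (algebraMap E Eg)) :=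
    haveI : Module.Flat E Eg := IsLocalization.flat Eg (Submonoid.powers g)
    hreg.of_flat (S := Eg)
  let iU : Spec (CommRingCat.of B) ⟶ X := hU.fromSpec
  have hsq : Spec.map (CommRingCat.ofHom (algebraMap A B)) ≫ hV.fromSpec = iU ≫ f :=
    IsAffineOpen.SpecMap_appLE_fromSpec f hV hU e
  let m := pullback.map (Spec.map (CommRingCat.ofHom (algebraMap A B)))
    (Spec.map (CommRingCat.ofHom (algebraMap A B))) f f iU iU hV.fromSpec hsq hsq
  let j : Spec (CommRingCat.of Eg) ⟶ pullback f f :=
    Spec.map (CommRingCat.ofHom (algebraMap E Eg)) ≫ (pullbackSpecIso A B B).inv ≫ m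
  have : IsOpenImmersion (Spec.map (CommRingCat.ofHom (algebraMap E Eg))) :=
    IsOpenImmersion.of_isLocalization g
  have hjfst : j ≫ pullback.fst f f = Spec.map (CommRingCat.ofHom
      ((algebraMap E Eg).comp Algebra.TensorProduct.includeLeftRingHom)) ≫ iU := by
    simp only [j, m, Category.assoc, pullback.map, pullback.lift_fst]
    rw [pullbackSpecIso_inv_fst_assoc, ← Spec.map_comp_assoc]
    rfl
  have hjsnd : j ≫ pullback.snd f f = Spec.map (CommRingCat.ofHom
      ((algebraMap E Eg).comp (Algebra.TensorProduct.includeRight (R := A) (A := B) (B := B)).toRingHom)) ≫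
        iU := by
    simp only [j, m, Category.assoc, pullback.map, pullback.lift_snd]
    rw [pullbackSpecIso_inv_snd_assoc, ← Spec.map_comp_assoc]
    rfl
  have hH : iU ≫ pullback.diagonal f = Spec.map (CommRingCat.ofHom μ') ≫ j := by
    have e1 : μ'.comp ((algebraMap E Eg).comp Algebra.TensorProduct.includeLeftRingHom) =
        RingHom.id B := by
      rw [← RingHom.comp_assoc, hμ']; exact RingHom.ext fun b => mul_one b
    have e2 : μ'.comp ((algebraMap E Eg).comp
        (Algebra.TensorProduct.includeRight (R := A) (A := B) (B := B)).toRingHom) = RingHom.id B := by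
      rw [← RingHom.comp_assoc, hμ']; exact RingHom.ext fun b => one_mul b
    apply pullback.hom_ext
    · rw [Category.assoc, pullback.diagonal_fst, Category.comp_id, Category.assoc, hjfst,
        ← Spec.map_comp_assoc, ← CommRingCat.ofHom_comp, e1, CommRingCat.ofHom_id, Spec.map_id,
        Category.id_comp]
    · rw [Category.assoc, pullback.diagonal_snd, Category.comp_id, Category.assoc, hjsnd,
        ← Spec.map_comp_assoc, ← CommRingCat.ofHom_comp, e2, CommRingCat.ofHom_id, Spec.map_id,
        Category.id_comp]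
  obtain ⟨z, rfl⟩ : ∃ z, iU z = x := by
    have : x ∈ Set.range iU := by rw [IsAffineOpen.range_fromSpec]; exact hxU
    exact this
  haveI : IsOpenImmersion j := inferInstance
  have h := spec_stalk (CommRingCat.ofHom μ') hsurj (rs.map (algebraMap E Eg)) hreg' hker z
  rw [List.length_map, hlen] at h
  exact stalk_of_charts (pullback.diagonal f) (Spec.map (CommRingCat.ofHom μ')) iU j hH z h

theorem hasTorDimLE_of_flat {X Y : Scheme.{u}} (f : X ⟶ Y) [Flat f] : DerSch.HasTorDimLE f 0 :=
  torAmp_of_stalks f 0 fun x => by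
    letI := (f.stalkMap x).hom.toAlgebra
    haveI : Module.Flat (Y.presheaf.stalk (f x)) (X.presheaf.stalk x) := Flat.stalkMap f x
    exact H54.PerfMor.hasTorDimLE_zero_of_flat _ _

/-- A morphism of a flat scheme to a smooth scheme of relative dimension `n`. -/
theorem hasTorDimLE_of_flat_over_smooth {S X Y : Scheme.{u}} (p : X ⟶ S) (q : Y ⟶ S) (f : X ⟶ Y)
    (hf : f ≫ q = p) (n : ℕ) [SmoothOfRelativeDimension n q] [Flat p] : DerSch.HasTorDimLE f n := by
  haveI : Smooth q := SmoothOfRelativeDimension.smooth n q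
  let Γf : X ⟶ pullback p q := pullback.lift (𝟙 X) f (by rw [Category.id_comp, hf])
  let d := pullback.map p q q q f (𝟙 Y) (𝟙 S) (by rw [Category.comp_id, hf]) (by simp)
  have hX : IsPullback (𝟙 X) f (𝟙 X ≫ f) (pullback.diagonal q ≫ pullback.fst q q) := by
    rw [pullback.diagonal_fst, Category.id_comp]
    exact IsPullback.of_vert_isIso ⟨by simp⟩ |>.flip |> id
  have hd1 : d ≫ pullback.fst q q = pullback.fst p q ≫ f := pullback.lift_fst _ _ _
  have hd2 : d ≫ pullback.snd q q = pullback.snd p q :=
    (pullback.lift_snd _ _ _).trans (Category.comp_id _)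
  have hΓ1 : Γf ≫ pullback.fst p q = 𝟙 X := pullback.lift_fst _ _ _
  have hΓ2 : Γf ≫ pullback.snd p q = f := pullback.lift_snd _ _ _
  have hΓd : Γf ≫ d = f ≫ pullback.diagonal q := by
    apply pullback.hom_ext
    · rw [Category.assoc, hd1, ← Category.assoc, hΓ1, Category.id_comp, Category.assoc,
        pullback.diagonal_fst, Category.comp_id]
    · rw [Category.assoc, hd2, hΓ2, Category.assoc, pullback.diagonal_snd, Category.comp_id]
  have hY : IsPullback (pullback.fst p q) d f (pullback.fst q q) := by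
    have h1 : IsPullback (pullback.snd p q) (pullback.fst p q) q (f ≫ q) := by
      rw [hf]; exact (IsPullback.of_hasPullback p q).flip
    exact (IsPullback.of_right (h₁₁ := d) (hd2.symm ▸ h1) hd1
      (IsPullback.of_hasPullback q q).flip).flip
  haveI : Flat (pullback.diagonal q ≫ pullback.fst q q) := by rw [pullback.diagonal_fst]; infer_instance
  have hgraph : DerSch.HasTorDimLE Γf (0 + n) :=
    BettiExact.TorProduct.hasTorDimLE_product (𝟙 X) f (pullback.diagonal q) (pullback.fst q q)
      (𝟙 X) f hX (pullback.fst p q) d hY Γf (hΓ1.trans (Category.comp_id _).symm) hΓd 0 n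
      (hasTorDimLE_of_flat (𝟙 X)) (hasTorDimLE_diagonal q n)
  rw [zero_add] at hgraph
  have hc : Γf ≫ pullback.snd p q = f := pullback.lift_snd _ _ _
  intro x
  have := BettiExact.TorComp.hasTorAmplitudeAt_comp Γf (pullback.snd p q) 0
    (hasTorDimLE_of_flat (pullback.snd p q)) (DerSch.unitCx X) (-(n : ℤ)) 0 x (hgraph x)
  rw [hc, Nat.cast_zero, sub_zero] at this
  exact this

end Groth.Agent.H41.TorDimSmooth
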