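import Groth.Agent.H41.TorDimSmooth
import Groth.Agent.Lib.BettiExact.TorBaseChange
import Groth.Agent.Lib.BettiExact.TorPush
import Groth.Agent.Lib.DerivedOX.KFlatPullback
import Groth.Agent.Lib.PushClosed.Unit

/-!
# Tor amplitude over a smooth scheme from tor amplitude over the base
-/

set_option autoImplicit false
set_option linter.style.haveILetI false

universe u

open CategoryTheory Limits AlgebraicGeometry HomologicalComplex MonoidalCategory

attribute [local instance] HasDerivedCategory.standard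

namespace Groth.Agent.H41.TorSmoothOver

open Groth.Agent.Lib Groth.Agent.Lib.DR Groth.Agent.Lib.DR.Basic Groth.Agent.Lib.DR.FiniteComplex
  Groth.Agent.Lib.DR.PseudoCoherent Groth.Agent.Lib.DR.BaseChange
open Groth.Agent.Lib.DerivedOX Groth.Agent.Lib.Modules StalkModule
open Groth.Agent.Lib.BettiExact TorTensor TorPull KFlatBaseChange

/-- The diagonal of a smooth morphism all whose relative dimensions are `≤ d`. -/
theorem hasTorDimLE_diagonal_of_le {X Y : Scheme.{u}} (f : X ⟶ Y) [Smooth f] (d : ℕ)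
    (hd : ∀ x : X, ∃ (n : ℕ) (V : X.Opens), n ≤ d ∧ x ∈ V ∧ SmoothOfRelativeDimension n (V.ι ≫ f)) :
    DerSch.HasTorDimLE (pullback.diagonal f) d :=
  TorDimSmooth.torAmp_of_stalks _ d fun x => by
    obtain ⟨n, V, hn, hxV, hV⟩ := hd x
    let j := pullback.map (V.ι ≫ f) (V.ι ≫ f) f f V.ι V.ι (𝟙 Y) (by simp) (by simp)
    have hw : V.ι ≫ pullback.diagonal f = pullback.diagonal (V.ι ≫ f) ≫ j := by
      apply pullback.hom_ext <;>
        simp only [Category.assoc, j, pullback.map, pullback.lift_fst, pullback.lift_snd, pullback.diagonal_fst,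
          pullback.diagonal_snd, Category.comp_id, pullback.diagonal_fst_assoc, pullback.diagonal_snd_assoc]
    let z : V.toScheme := ⟨x, hxV⟩
    letI := ((pullback.diagonal (V.ι ≫ f)).stalkMap z).hom.toAlgebra
    have h0 := TorComp.bdd_unit (pullback.diagonal (V.ι ≫ f)) n (TorDimSmooth.hasTorDimLE_diagonal _ n) z
    have h : DRing.HasTorDimLE ((pullback (V.ι ≫ f) (V.ι ≫ f)).presheaf.stalk (pullback.diagonal (V.ι ≫ f) z)) d
        (V.toScheme.presheaf.stalk z) :=
      (TorDim.hasTorDimLE_iff _ d).2 (h0.mono (by omega) le_rfl)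
    exact TorDimSmooth.stalk_of_charts (pullback.diagonal f) (pullback.diagonal (V.ι ≫ f)) V.ι j hw z h

/-- Tor amplitude of a pullback of a K-flat complex, pointwise. -/
theorem torAmpAt_pb {X Y Z : Scheme.{u}} (f : X ⟶ Y) (g : Y ⟶ Z) (m : ℕ) (hf : DerSch.HasTorDimLE f m)
    {P : CochainComplex Y.Modules ℤ} (hP : DCoh.IsKFlat P) {c d : ℤ} (x : X)
    (hPA : DerSch.HasTorAmplitudeAt g c d P (f x)) :
    DerSch.HasTorAmplitudeAt (f ≫ g) (c - m) d ((pbC f).obj P) x := by
  let φ : Z.presheaf.stalk (g (f x)) →+* Y.presheaf.stalk (f x) := (g.stalkMap (f x)).hom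
  let ψ : Y.presheaf.stalk (f x) →+* X.presheaf.stalk x := (f.stalkMap x).hom
  letI : Algebra (Y.presheaf.stalk (f x)) (X.presheaf.stalk x) := ψ.toAlgebra
  let C₀ : DRing.Cx (X.presheaf.stalk x) := 𝟙_ _
  have hC : Bdd (flat (Y.presheaf.stalk (f x))) (-(m : ℤ)) 0 (DerivedCategory.Q.obj ((resC ψ).obj C₀)) :=
    Bdd.of_iso (TorComp.bdd_unit f m hf x) (((DerivedCategory.singleFunctorIsoCompQ _ 0).app _) ≪≫
      DerivedCategory.Q.mapIso ((singleMapHomologicalComplex (resF ψ) (ComplexShape.up ℤ) 0).app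
        (𝟙_ (ModuleCat.{u} (X.presheaf.stalk x)))).symm)
  have h := bdd_res_tensor_of_bdd φ ((KFlatStalk.isKFlat_iff_stalk P).1 hP (f x)) hC
    ((torAmpAt_iff g (f x) P c d).1 hPA)
  rw [add_zero, ← sub_eq_add_neg] at h
  let i : (resC ψ).obj ((stC x).obj ((pbC f).obj P)) ≅ (resC ψ).obj C₀ ⊗ (stC (f x)).obj P :=
    (resC ψ).mapIso ((stalkPbIso f x P).symm ≪≫ (λ_ _).symm) ≪≫ projCxIso ψ C₀ _
  exact (torAmpAt_iff (f ≫ g) x _ _ _).2 (Bdd.of_iso h (DerivedCategory.Q.mapIso
    ((resC φ).mapIso i.symm ≪≫ stOverCompIso f g x _)))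

/-- Pointwise form: tor amplitude `[a, b]` over the base gives `[a - d, b]` over a smooth scheme of
relative dimension `≤ d`. -/
theorem torAmpAt_over_smooth {S X Y : Scheme.{u}} (f : X ⟶ Y) (q : Y ⟶ S) [Smooth q] (d : ℕ)
    (hd : ∀ y : Y, ∃ (n : ℕ) (V : Y.Opens), n ≤ d ∧ y ∈ V ∧ SmoothOfRelativeDimension n (V.ι ≫ q))
    (F : CochainComplex X.Modules ℤ) {a b : ℤ} (x : X)
    (hF : DerSch.HasTorAmplitudeAt (f ≫ q) a b F x) :
    DerSch.HasTorAmplitudeAt f (a - d) b F x := by
  let p := f ≫ q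
  let Γf : X ⟶ pullback p q := pullback.lift (𝟙 X) f (by rw [Category.id_comp])
  let dd := pullback.map p q q q f (𝟙 Y) (𝟙 S) (by rw [Category.comp_id]) (by simp)
  have hX : IsPullback (𝟙 X) f (𝟙 X ≫ f) (pullback.diagonal q ≫ pullback.fst q q) := by
    rw [pullback.diagonal_fst, Category.id_comp]
    exact IsPullback.of_vert_isIso ⟨by simp⟩ |>.flip |> id
  have hd1 : dd ≫ pullback.fst q q = pullback.fst p q ≫ f := pullback.lift_fst _ _ _
  have hd2 : dd ≫ pullback.snd q q = pullback.snd p q :=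
    (pullback.lift_snd _ _ _).trans (Category.comp_id _)
  have hΓ1 : Γf ≫ pullback.fst p q = 𝟙 X := pullback.lift_fst _ _ _
  have hΓ2 : Γf ≫ pullback.snd p q = f := pullback.lift_snd _ _ _
  have hΓd : Γf ≫ dd = f ≫ pullback.diagonal q := by
    apply pullback.hom_ext
    · rw [Category.assoc, hd1, ← Category.assoc, hΓ1, Category.id_comp, Category.assoc,
        pullback.diagonal_fst, Category.comp_id]
    · rw [Category.assoc, hd2, hΓ2, Category.assoc, pullback.diagonal_snd, Category.comp_id]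
  have hY : IsPullback (pullback.fst p q) dd f (pullback.fst q q) := by
    have h1 : IsPullback (pullback.snd p q) (pullback.fst p q) q (f ≫ q) :=
      (IsPullback.of_hasPullback p q).flip
    exact (IsPullback.of_right (h₁₁ := dd) (hd2.symm ▸ h1) hd1
      (IsPullback.of_hasPullback q q).flip).flip
  haveI : Flat (pullback.diagonal q ≫ pullback.fst q q) := by rw [pullback.diagonal_fst]; infer_instance
  have hgraph : DerSch.HasTorDimLE Γf (0 + d) :=
    TorProduct.hasTorDimLE_product (𝟙 X) f (pullback.diagonal q) (pullback.fst q q)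
      (𝟙 X) f hX (pullback.fst p q) dd hY Γf (hΓ1.trans (Category.comp_id _).symm) hΓd 0 d
      (TorDimSmooth.hasTorDimLE_of_flat (𝟙 X)) (hasTorDimLE_diagonal_of_le q d hd)
  rw [zero_add] at hgraph
  let P := (KFlat.res X).obj F
  haveI : QuasiIso ((KFlat.aug X).app F) := KFlat.quasiIso_aug F
  let eP : DCoh.toD X P ≅ DCoh.toD X F := asIso (DerivedCategory.Q.map ((KFlat.aug X).app F))
  let G := (pbC (pullback.fst p q)).obj P
  have hG : DCoh.IsKFlat G := KFlatPullback.isKFlat_pullback _ (KFlat.isKFlat_res F)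
  let eG : (pbC Γf).obj G ≅ P :=
    (NatIso.mapHomologicalComplex (Scheme.Modules.pullbackComp Γf (pullback.fst p q) ≪≫
      Scheme.Modules.pullbackCongr hΓ1 ≪≫ Scheme.Modules.pullbackId X) (ComplexShape.up ℤ)).app P ≪≫
      (Functor.mapHomologicalComplexIdIso _ _).app P
  have hx : pullback.fst p q (Γf x) = x := congrArg (fun t : X ⟶ X => t x) hΓ1
  have h1 : DerSch.HasTorAmplitudeAt (pullback.snd p q) a b G (Γf x) :=
    TorBaseChange.torAmpAt_pb_baseChange p q P (Γf x) (torAmpAt_of_iso p _ eP.symm (by rw [hx]; exact hF))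
  have h2 := torAmpAt_pb Γf (pullback.snd p q) d hgraph hG x h1
  rw [hΓ2] at h2
  exact torAmpAt_of_iso f x (DerivedCategory.Q.mapIso eG ≪≫ eP) h2

/-- A complex of tor amplitude `[a, b]` over the base has tor amplitude `[a - d, b]` over a smooth
scheme of relative dimension `≤ d`. -/
theorem torAmp_over_smooth {S X Y : Scheme.{u}} (f : X ⟶ Y) (q : Y ⟶ S) [Smooth q] (d : ℕ)
    (hd : ∀ y : Y, ∃ (n : ℕ) (V : Y.Opens), n ≤ d ∧ y ∈ V ∧ SmoothOfRelativeDimension n (V.ι ≫ q))
    (F : CochainComplex X.Modules ℤ) {a b : ℤ} (hF : DerSch.HasTorAmplitude (f ≫ q) a b F) :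
    DerSch.HasTorAmplitude f (a - d) b F := fun x => torAmpAt_over_smooth f q d hd F x (hF x)

/-- Relative tor amplitude over the ambient scheme is absolute flat amplitude of the direct image. -/
theorem flatAmp_push {X X' : Scheme.{u}} (i : X ⟶ X') [IsClosedImmersion i] (F : CochainComplex X.Modules ℤ)
    {a b : ℤ} (hF : DerSch.HasTorAmplitude i a b F) :
    DCoh.HasFlatAmplitudeIn a b
      (DCoh.toD X' (((Scheme.Modules.pushforward i).mapHomologicalComplex (ComplexShape.up ℤ)).obj F)) := by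
  refine TorAmpStalk.flatAmp_of_torAmp fun x' => (TorAmpStalk.bdd_iff _ a b x').2 ?_
  by_cases hx : x' ∈ Set.range i.base
  · obtain ⟨x, rfl⟩ := hx
    exact Bdd.of_iso ((torAmpAt_iff i x F a b).1 (hF x)) (DerivedCategory.Q.mapIso
      ((NatIso.mapHomologicalComplex (TorPush.pushStalkIso i x) (ComplexShape.up ℤ)).app F).symm)
  · refine bdd_zero good_flat (DerivedCategory.Q.map_isZero ?_) a b
    rw [IsZero.iff_id_eq_zero]
    ext n : 1
    haveI : Subsingleton ↑((stalkModFunctor X' x').obj ((Scheme.Modules.pushforward i).obj (F.X n))) :=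
      PushClosed.Unit.subsingleton_stalk_push i (F.X n) hx
    exact (ModuleCat.isZero_of_subsingleton
      ((stalkModFunctor X' x').obj ((Scheme.Modules.pushforward i).obj (F.X n)))).eq_of_src _ _

end Groth.Agent.H41.TorSmoothOver
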